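import Groth.Agent.Lib.NodeOpen11.Closed
import Groth.Agent.Lib.NodeEt.Geom
import Groth.Agent.Lib.NodeEt.FieldExtBC
import Groth.Agent.Lib.CurveLocus.CM
import Groth.Agent.Lib.CMMor6.BaseChange
import Groth.Agent.Lib.FibClos.SmoothLocus
import Groth.Agent.Lib.GenericSmooth.Basic
import Groth.Agent.Lib.AffDom.LocalDim
import Groth.Agent.Lib.Kleiman.Proper
import Groth.Agent.Lib.CMFree.Regular

/-!
# The pointwise criterion for smooth points and nodes of curves over a field
-/

set_option autoImplicit false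
set_option linter.all false
set_option backward.isDefEq.respectTransparency false

universe u

open CategoryTheory Limits AlgebraicGeometry IsLocalRing TensorProduct

noncomputable section

namespace GrothLib.NodeOpen11

/-- Smooth near the point, or a node. -/
def Good {k : Type u} [Field k] {X : Scheme.{u}} (sX : X ⟶ Spec (CommRingCat.of k)) (x : X) : Prop :=
  (∃ U : X.Opens, x ∈ U ∧ Smooth (U.ι ≫ sX)) ∨ @Curv2.IsNode k _ X ⟨sX⟩ x

section field

variable {k : Type u} [Field k] {X : Scheme.{u}} (sX : X ⟶ Spec (CommRingCat.of k))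

theorem isCMAt_field_iff (x : X) :
    MoreMor.IsCMAt sX x ↔ LocCoh.IsCohenMacaulayLocalRing (X.presheaf.stalk x) := by
  let e := GrothLib.CurveLocus.fiberStalkEquiv sX (𝟙 _) x
  constructor
  · rintro ⟨-, h⟩
    haveI := h
    exact GrothLib.HB26.isCohenMacaulayLocalRing_of_ringEquiv e
  · exact fun h => ⟨GrothLib.CurveLocus.flat_stalkMap sX (𝟙 _) x, (haveI := h; GrothLib.HB26.isCohenMacaulayLocalRing_of_ringEquiv e.symm)⟩

theorem stalk_dim_of_closed [LocallyOfFiniteType sX]
    (hequi : ∀ W ∈ irreducibleComponents (X : Type u), topologicalKrullDim W = 1) (x : X)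
    (hx : IsClosed ({x} : Set X)) : ringKrullDim (X.presheaf.stalk x) = 1 := by
  have h1 := (GrothLib.Equidim6.equidim_iff sX 1).1 (by simpa using hequi) x
  rw [GrothLib.AffDom.localDim_eq sX x, GrothLib.Kleiman.ptDim_eq_zero_of_isClosed hx, zero_add] at h1
  simpa using h1

end field

section algClosed

variable {L : Type u} [Field L] [IsAlgClosed L] {A : Type u} [CommRing A] [Algebra L A] [Algebra.FiniteType L A]

local notation "sA" => Spec.map (CommRingCat.ofHom (algebraMap L A))

theorem exists_stalkEquiv (q : PrimeSpectrum A) :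
    ∃ e : Localization.AtPrime q.asIdeal ≃+* (Spec (CommRingCat.of A)).presheaf.stalk q,
      ∀ c, e (algebraMap L _ c) = @Curv2.stalkMap L _ _ ⟨sA⟩ q c := by
  simpa using GrothLib.NodeEt.exists_stalk_equiv sA A (𝟙 _) (Category.id_comp _) q

/-- The criterion at a closed point. -/
theorem good_iff_closed (hequi : ∀ W ∈ irreducibleComponents (Spec (CommRingCat.of A) : Type u), topologicalKrullDim W = 1)
    (q : PrimeSpectrum A) [q.asIdeal.IsMaximal] :
    (Good sA q ↔ MoreMor.IsCMAt sA q ∧ q ∉ ramSet L A) ∧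
      (MoreMor.IsCMAt sA q → q ∉ ramSet L A → ¬ fitt1 L A ≤ q.asIdeal →
        ∃ U : (Spec (CommRingCat.of A)).Opens, q ∈ U ∧ Smooth (U.ι ≫ sA)) := by
  haveI : LocallyOfFiniteType sA :=
    (HasRingHomProperty.Spec_iff (P := @LocallyOfFiniteType)).2 (RingHom.finiteType_algebraMap.2 ‹_›)
  haveI : IsLocallyNoetherian (Spec (CommRingCat.of A)) := LocallyOfFiniteType.isLocallyNoetherian sA
  haveI : LocallyOfFinitePresentation sA := GrothLib.LocProp.locallyOfFinitePresentation_of_isLocallyNoetherian sA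
  haveI : IsNoetherianRing A := Algebra.FiniteType.isNoetherianRing L A
  set M := q.asIdeal
  set B := Localization.AtPrime M
  haveI : IsNoetherianRing B := IsLocalization.isNoetherianRing M.primeCompl _ inferInstance
  obtain ⟨e, he⟩ := exists_stalkEquiv (L := L) q
  have hx : IsClosed ({q} : Set (PrimeSpectrum A)) := (PrimeSpectrum.isClosed_singleton_iff_isMaximal q).2 ‹_›
  have hdimS : ringKrullDim ((Spec (CommRingCat.of A)).presheaf.stalk q) = 1 := stalk_dim_of_closed sA hequi q hx
  have hdim : ringKrullDim B = 1 := (ringKrullDim_eq_of_ringEquiv e).trans hdimS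
  have hsm : (∃ U : (Spec (CommRingCat.of A)).Opens, q ∈ U ∧ Smooth (U.ι ≫ sA)) ↔ IsRegularLocalRing B := by
    constructor
    · rintro ⟨U, hU, hs⟩
      haveI := GrothLib.WeilExt.isRegularLocalRing_stalk_of_smooth (U.ι ≫ sA)
        (fun s => GrothLib.WeilExt.isRegularLocalRing_stalk_spec L s) ⟨q, hU⟩
      exact IsRegularLocalRing.of_ringEquiv ((U.stalkIso ⟨q, hU⟩).commRingCatIsoToRingEquiv.trans e.symm)
    · intro h
      haveI : IsRegularLocalRing ((Spec (CommRingCat.of A)).presheaf.stalk q) := IsRegularLocalRing.of_ringEquiv e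
      refine (GrothLib.LocProp.smooth_nhd_iff sA q).2 (GrothLib.GenericSmooth.mem_smoothLocus_of_regular sA q
        (GrothLib.CurveLocus.isOpenImmersion_fromSpecResidueField (𝟙 _) (sA q)).2 ?_)
      let η := (sA q : Spec (CommRingCat.of L))
      letI := (GrothLib.CurveLocus.isOpenImmersion_fromSpecResidueField (𝟙 _) η).2.toField
      obtain ⟨e', -⟩ := GrothLib.NodeEt.exists_stalk_equiv (𝟙 (Spec (CommRingCat.of L))) L (𝟙 _)
        (by simp [Spec.map_id]) η
      haveI : η.asIdeal = ⊥ := (Ideal.eq_bot_or_top _).resolve_right η.isPrime.ne_top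
      let e₀ : L ≃ₐ[L] Localization.AtPrime η.asIdeal := IsLocalization.atUnits L η.asIdeal.primeCompl fun x hx => by
          refine isUnit_iff_ne_zero.2 fun h0 => hx ?_
          rw [h0]; exact zero_mem _
      exact PerfectField.of_ringEquiv (e₀.toRingEquiv.trans e')
  have hnd : @Curv2.IsNode L _ _ ⟨sA⟩ q ↔ GrothLib.NodeEt.NodeForm B := by
    rw [GrothLib.NodeEt.isNode_iff_nodeForm sA q]
    constructor
    · exact fun h => h.2.2.of_ringEquiv e.symm
    · intro h
      refine ⟨hx, ?_, h.of_ringEquiv e⟩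
      let C : GrothLib.NodeEt.Chart sA q :=
        { R := A, j := 𝟙 _, hj := Category.id_comp _, pt := q, hpt := rfl }
      haveI : C.pt.asIdeal.IsMaximal := ‹_›
      refine (GrothLib.NodeEt.Chart.isSeparable_iff sA C).1 ?_
      letI := Ideal.Quotient.field C.pt.asIdeal
      haveI : Module.Finite L (C.R ⧸ C.pt.asIdeal) := finite_of_finite_type_of_isJacobsonRing L _
      infer_instance
  have hcm : MoreMor.IsCMAt sA q ↔ ∃ z ∈ maximalIdeal B, IsSMulRegular B z := by
    rw [isCMAt_field_iff]
    have h1 : LocCoh.IsCohenMacaulayLocalRing ((Spec (CommRingCat.of A)).presheaf.stalk q) ↔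
        LocCoh.IsCohenMacaulayLocalRing B :=
      ⟨fun h => (haveI := h; GrothLib.HB26.isCohenMacaulayLocalRing_of_ringEquiv e.symm), fun h => (haveI := h; GrothLib.HB26.isCohenMacaulayLocalRing_of_ringEquiv e)⟩
    rw [h1, GrothLib.CurveLocus.isCM_iff_of_dim_le_one hdim.le, or_iff_right (by rw [hdim]; decide)]
    refine exists_congr fun z => and_congr_right fun _ => ?_
    exact ⟨fun h => isSMulRegular_iff_right_eq_zero_of_smul.2 h, fun h y hy => h (by simpa using hy)⟩
  have hfwd : IsRegularLocalRing B ∨ GrothLib.NodeEt.NodeForm B → MoreMor.IsCMAt sA q ∧ q ∉ ramSet L A := by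
    intro h
    refine ⟨hcm.2 ?_, notMem_ramSet_of_good M hdim h⟩
    rcases h with h | h
    · haveI : IsDomain B := GrothLib.CMFree.isDomain_of_isRegularLocalRing B
      obtain ⟨z, hz, hz0⟩ := Submodule.exists_mem_ne_zero_of_ne_bot fun h0 : maximalIdeal B = ⊥ => by
        rw [ringKrullDim_eq_zero_of_isField ((IsLocalRing.isField_iff_maximalIdeal_eq).2 h0)] at hdim
        exact zero_ne_one hdim
      exact ⟨z, hz, isSMulRegular_iff_right_eq_zero_of_smul.2 fun y hy => (mul_eq_zero.1 hy).resolve_left hz0⟩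
    · exact exists_regular_of_nodeForm (exists_sub_mem (L := L) M) h
  refine ⟨?_, fun h1 h2 h3 => hsm.2 ?_⟩
  · rw [Good, hsm, hnd]
    exact ⟨hfwd, fun h => good_of_notMem_ramSet M hdim (hcm.1 h.1) h.2⟩
  · rcases good_of_notMem_ramSet M hdim (hcm.1 h1) h2 with h | h
    · exact h
    haveI := finite_kaehler_localization (L := L) M
    have h4 : fitt1 L B = maximalIdeal B := fitting_of_nodeForm (exists_sub_mem M) h
    rw [fitt1_localization M] at h4
    obtain ⟨x, hx', hxM⟩ := SetLike.not_le_iff_exists.1 h3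
    refine absurd ?_ (maximalIdeal.isMaximal B).ne_top
    rw [← h4]
    exact Ideal.eq_top_of_isUnit_mem _ (Ideal.mem_map_of_mem _ hx')
      (IsLocalization.map_units B (⟨x, hxM⟩ : M.primeCompl))

/-- The criterion over an algebraically closed field. -/
theorem good_iff_algClosed
    (hequi : ∀ W ∈ irreducibleComponents (Spec (CommRingCat.of A) : Type u), topologicalKrullDim W = 1)
    (q : PrimeSpectrum A) : Good sA q ↔ MoreMor.IsCMAt sA q ∧ q ∉ ramSet L A := by
  by_cases hmax : q.asIdeal.IsMaximal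
  · exact (good_iff_closed hequi q).1
  haveI : LocallyOfFiniteType sA :=
    (HasRingHomProperty.Spec_iff (P := @LocallyOfFiniteType)).2 (RingHom.finiteType_algebraMap.2 ‹_›)
  haveI : IsLocallyNoetherian (Spec (CommRingCat.of A)) := LocallyOfFiniteType.isLocallyNoetherian sA
  haveI : LocallyOfFinitePresentation sA := GrothLib.LocProp.locallyOfFinitePresentation_of_isLocallyNoetherian sA
  haveI : IsJacobsonRing A := isJacobsonRing_of_finiteType (A := L)
  haveI : IsNoetherianRing A := Algebra.FiniteType.isNoetherianRing L A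
  have hO : IsOpen ({x | MoreMor.IsCMAt sA x} ∩ (ramSet L A)ᶜ : Set (PrimeSpectrum A)) :=
    (GrothLib.CMMor6.isOpen_cmLocus sA).inter isClosed_ramSet.isOpen_compl
  have hpt : ∀ V : Set (PrimeSpectrum A), IsOpen V → q ∈ V →
      ∃ y ∈ V, q ⤳ y ∧ y.asIdeal.IsMaximal := by
    intro V hV hqV
    have hlc : IsLocallyClosed (V ∩ closure {q}) := hV.isLocallyClosed.inter isClosed_closure.isLocallyClosed
    obtain ⟨y, ⟨hyV, hyq⟩, hy⟩ := nonempty_inter_closedPoints (show (V ∩ closure {q}).Nonempty from ⟨q, hqV, subset_closure rfl⟩) hlc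
    exact ⟨y, hyV, specializes_iff_mem_closure.2 hyq, (PrimeSpectrum.isClosed_singleton_iff_isMaximal y).1 hy⟩
  constructor
  · rintro (⟨U, hqU, hU⟩ | hn)
    · obtain ⟨y, hyU, hqy, hy⟩ := hpt (SetLike.coe U) U.2 hqU
      exact hqy.mem_open hO ((good_iff_closed hequi y).1.1 (Or.inl ⟨U, hyU, hU⟩))
    · exact absurd ((PrimeSpectrum.isClosed_singleton_iff_isMaximal q).1 hn.1) hmax
  · intro h
    by_cases hI : fitt1 L A ≤ q.asIdeal
    · obtain ⟨y, hyO, hqy, hy⟩ := hpt _ hO h
      have hle : q.asIdeal ≤ y.asIdeal := (PrimeSpectrum.le_iff_specializes q y).2 hqy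
      have h1 := (notMem_ramSet_iff (L := L) y.asIdeal).1 hyO.2
      rw [fitt1_localization y.asIdeal] at h1
      have hIy : (fitt1 L A).map (algebraMap A (Localization.AtPrime y.asIdeal)) ≤
          q.asIdeal.map (algebraMap A (Localization.AtPrime y.asIdeal)) := Ideal.map_mono hI
      have hdisj : Disjoint (y.asIdeal.primeCompl : Set A) q.asIdeal :=
        Set.disjoint_left.2 fun a ha ha' => ha (hle ha')
      have hqm : maximalIdeal (Localization.AtPrime y.asIdeal) ≤
          q.asIdeal.map (algebraMap A (Localization.AtPrime y.asIdeal)) := by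
        rcases h1 with h1 | h1
        · exact le_top.trans (h1 ▸ hIy)
        · exact h1 ▸ hIy
      have hyq : y.asIdeal ≤ q.asIdeal := by
        rw [← IsLocalization.comap_map_of_isPrime_disjoint y.asIdeal.primeCompl (Localization.AtPrime y.asIdeal)
          q.isPrime hdisj]
        intro a ha
        refine Ideal.mem_comap.2 (hqm ?_)
        rw [← Localization.AtPrime.map_eq_maximalIdeal]
        exact Ideal.mem_map_of_mem _ ha
      exact absurd (by rw [le_antisymm hle hyq]; exact hy) hmax
    · have hV : IsOpen ((({x | MoreMor.IsCMAt sA x} ∩ (ramSet L A)ᶜ) ∩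
          (PrimeSpectrum.zeroLocus (fitt1 L A : Set A))ᶜ) : Set (PrimeSpectrum A)) :=
        hO.inter (PrimeSpectrum.isClosed_zeroLocus _).isOpen_compl
      obtain ⟨y, ⟨⟨hy1, hy2⟩, hy3⟩, hqy, hy⟩ := hpt _ hV ⟨h, hI⟩
      obtain ⟨U, hyU, hU⟩ := (good_iff_closed hequi y).2 hy1 hy2 hy3
      exact Or.inl ⟨U, hqy.mem_open U.2 hyU, hU⟩

end algClosed

end GrothLib.NodeOpen11
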