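import Groth.Agent.Lib.NodeOpen11.Locus
import Groth.Agent.Lib.NodeEt.Chart

/-!
# The nodal locus of a family: openness, base change and étale invariance
-/

set_option autoImplicit false
set_option linter.all false
set_option backward.isDefEq.respectTransparency false

universe u

open CategoryTheory Limits AlgebraicGeometry TensorProduct

noncomputable section

namespace GrothLib.NodeOpen11

attribute [local instance] Algebra.TensorProduct.rightAlgebra

/-- Smoothness or nodality at a point is insensitive to étale maps over the same field. -/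
theorem good_iff_of_etale {k : Type u} [Field k] {X Z : Scheme.{u}} (sX : X ⟶ Spec (CommRingCat.of k))
    [LocallyOfFiniteType sX] (sZ : Z ⟶ Spec (CommRingCat.of k)) (φ : Z ⟶ X) [Etale φ] (comm : φ ≫ sX = sZ) (z : Z) :
    Good sZ z ↔ Good sX (φ z) :=
  GrothLib.NodeEt.goodPoint_iff_of_etale (k := k) (k' := k) sX sZ φ
    (by rw [comm]; erw [Spec.map_id, Category.comp_id]) z

/-- Smoothness or nodality at a point of a curve is insensitive to extensions of the ground field. -/
theorem good_fieldExt {k L : Type u} [Field k] [Field L] [Algebra k L] {X Z : Scheme.{u}}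
    {sX : X ⟶ Spec (CommRingCat.of k)} [LocallyOfFiniteType sX] {sZ : Z ⟶ Spec (CommRingCat.of L)} {i : Z ⟶ X}
    (hsq : IsPullback i sZ sX (Spec.map (CommRingCat.ofHom (algebraMap k L))))
    (hequi : ∀ W ∈ irreducibleComponents (X : Type u), topologicalKrullDim W = 1) (z : Z) :
    Good sZ z ↔ Good sX (i z) := by
  let g := Spec.map (CommRingCat.ofHom (algebraMap k L))
  let e := hsq.isoPullback
  haveI : LocallyOfFiniteType (pullback.snd sX g) := MorphismProperty.pullback_snd _ _ inferInstance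
  have hz : pullback.fst sX g (e.hom z) = i z := by rw [← Scheme.Hom.comp_apply, hsq.isoPullback_hom_fst]
  rw [good_iff_of_etale (pullback.snd sX g) sZ e.hom hsq.isoPullback_hom_snd z, ← hz]
  generalize e.hom z = w
  obtain ⟨x, hx⟩ : ∃ x, pullback.fst sX g w = x := ⟨_, rfl⟩
  rw [hx]
  obtain ⟨C⟩ := GrothLib.NodeEt.exists_chart sX x
  obtain ⟨m, hm, hsnd, hiff, hrange⟩ := C.exists_point L
  obtain ⟨q, rfl⟩ := hrange w hx
  haveI := hm
  let sT := Spec.map (CommRingCat.ofHom (algebraMap L (L ⊗[k] C.R)))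
  let sR := Spec.map (CommRingCat.ofHom (algebraMap k C.R))
  let ι := Spec.map (CommRingCat.ofHom (algebraMap C.R (L ⊗[k] C.R)))
  have hιq : ι q = C.pt := (PrimeSpectrum.ext ((hiff q).1 hx)).symm
  have sq : IsPullback ι sT sR g :=
    isPullback_SpecMap_of_isPushout _ _ _ _
      (CommRingCat.isPushout_iff_isPushout.mpr
        (Algebra.IsPushout.symm (inferInstance : Algebra.IsPushout k L C.R (L ⊗[k] C.R))))
  haveI : LocallyOfFiniteType sR :=
    (HasRingHomProperty.Spec_iff (P := @LocallyOfFiniteType)).2 (RingHom.finiteType_algebraMap.2 C.ft)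
  haveI : LocallyOfFiniteType sT := MorphismProperty.of_isPullback sq ‹LocallyOfFiniteType sR›
  have hequiR : ∀ W ∈ irreducibleComponents (Spec (CommRingCat.of C.R) : Type u), topologicalKrullDim W = 1 :=
    GrothLib.NodeEt.components_dim_one_of_etale (k := k) (k' := k) sX sR C.j
      (by rw [C.hj]; erw [Spec.map_id, Category.comp_id]) hequi
  rw [← good_iff_of_etale (pullback.snd sX g) sT m hsnd q, show Good sX x ↔ Good sX (C.j C.pt) by rw [C.hpt],
    ← good_iff_of_etale sX sR C.j C.hj C.pt]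
  haveI : Algebra.FiniteType L (L ⊗[k] C.R) := inferInstance
  rw [good_iff (k := L) (A := L ⊗[k] C.R) (GrothLib.NodeEt.components_dim_of_isPullback sR sq 1 hequiR) q,
    good_iff hequiR C.pt, mem_ramSet_baseChange (R := k) (A := C.R) L (L ⊗[k] C.R) q,
    GrothLib.CMMor6.isCMAt_iff, GrothLib.CMMor6.isCMAt_iff,
    GrothLib.CMMor6.isCMAt_baseChange_iff_of_finiteType sq q, hιq,
    show PrimeSpectrum.comap (algebraMap C.R (L ⊗[k] C.R)) q = C.pt from hιq]
  haveI : Flat sT := GrothLib.CurveLocus.flat_to_spec_field sT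
  haveI : Flat sR := GrothLib.CurveLocus.flat_to_spec_field sR
  exact and_congr_left fun _ => and_congr_left fun _ => iff_of_true (Flat.stalkMap sT q) (Flat.stalkMap sR C.pt)

variable {X S : Scheme.{u}}

/-- The fibre is Cohen–Macaulay of dimension one and smooth or nodal at the point. -/
def nodalLocus (f : X ⟶ S) : Set X :=
  {x | (MoreMor.IsCMAt f x ∧ FlatMor.fibreDimAt f x = 1) ∧ Good (f.fiberToSpecResidueField (f x)) (f.asFiber x)}

theorem good_asFiber_iff (f : X ⟶ S) (s : S) (z : f.fiber s) (x : X) (hz : f.fiberι s z = x) :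
    Good (f.fiberToSpecResidueField (f x)) (f.asFiber x) ↔ Good (f.fiberToSpecResidueField s) z := by
  obtain rfl : f x = s := hz ▸ GrothLib.DimCut.apply_fiberι f s z
  rw [GrothLib.DimCut.eq_asFiber f x z hz]

theorem good_etale_source {Y : Scheme.{u}} (e : Y ⟶ X) [Etale e] (f : X ⟶ S) [LocallyOfFiniteType f] (y : Y) :
    Good ((e ≫ f).fiberToSpecResidueField ((e ≫ f) y)) ((e ≫ f).asFiber y) ↔
      Good (f.fiberToSpecResidueField (f (e y))) (f.asFiber (e y)) := by
  haveI := GrothLib.NodeEt.locallyOfFiniteType_fiberTo f (f (e y))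
  obtain ⟨φ, hφ, hcomm, hpt⟩ := GrothLib.NodeEt.exists_fiberMap f e (f (e y))
  obtain ⟨z, hz, hz'⟩ := hpt y ⟨f.asFiber (e y), f.fiberι_asFiber _⟩
  rw [good_asFiber_iff (e ≫ f) _ z y hz, good_asFiber_iff f _ (φ z) (e y) hz']
  exact good_iff_of_etale (k := S.residueField (f (e y))) (f.fiberToSpecResidueField (f (e y))) _ φ hcomm z

theorem isCMAt_of_mem_goodSet (f : X ⟶ S) [Flat f] [LocallyOfFinitePresentation f]
    (hfib : ∀ s : S, ∀ Z ∈ irreducibleComponents (↥(f.fiber s) : Type u), topologicalKrullDim Z = 1)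
    (x : X) (hx : x ∈ goodSet f) : MoreMor.IsCMAt f x := by
  obtain ⟨V, hV, hxV, -⟩ := exists_isAffineOpen_mem_and_subset (X := S) (x := f x) (U := ⊤) trivial
  obtain ⟨U, hU, hxU, hUV⟩ := exists_isAffineOpen_mem_and_subset (X := X) (x := x) (U := f ⁻¹ᵁ V) hxV
  letI : Algebra Γ(S, V) Γ(X, U) := (f.appLE V U hUV).hom.toAlgebra
  have hfp := LocallyOfFinitePresentation.finitePresentation_appLE f hV hU hUV
  haveI : Algebra.FiniteType Γ(S, V) Γ(X, U) :=
    RingHom.finiteType_algebraMap.mp (RingHom.FiniteType.of_finitePresentation hfp)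
  have comm : hU.fromSpec ≫ f = Spec.map (CommRingCat.ofHom (algebraMap Γ(S, V) Γ(X, U))) ≫ hV.fromSpec :=
    (hV.SpecMap_appLE_fromSpec f hU hUV).symm
  obtain ⟨q, rfl⟩ := hU.range_fromSpec.ge hxU
  have h1 := ((mem_goodSet_iff_chart f hfib hU.fromSpec hV.fromSpec comm q).1 hx).1
  rw [← GrothLib.CMMor6.isCMAt_openImmersion_comp_iff hU.fromSpec f q, comm]
  haveI : LocallyOfFiniteType (Spec.map (CommRingCat.ofHom (algebraMap Γ(S, V) Γ(X, U)))) :=
    (HasRingHomProperty.Spec_iff (P := @LocallyOfFiniteType)).2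
      (RingHom.finiteType_algebraMap.2 ‹Algebra.FiniteType Γ(S, V) Γ(X, U)›)
  exact GrothLib.CMMor6.isCMAt_comp _ hV.fromSpec q (GrothLib.CMMor6.isLocallyNoetherian_fiber _ _) h1
    (GrothLib.CMMor6.isCMAt_of_openImmersion _ _)

theorem hfib_of_fibreDimAt (f : X ⟶ S) [LocallyOfFiniteType f] (h : ∀ x, FlatMor.fibreDimAt f x = 1) :
    ∀ s : S, ∀ Z ∈ irreducibleComponents (↥(f.fiber s) : Type u), topologicalKrullDim Z = 1 := by
  simpa using (GrothLib.Equidim6.fibres_equidim_iff f 1).2 (by simpa using h)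

/-- The open set on which the morphism is Cohen–Macaulay of relative dimension one. -/
def cmDimOne (f : X ⟶ S) [Flat f] [LocallyOfFinitePresentation f] : X.Opens :=
  ⟨_, (GrothLib.CurveStk.ptProp_cm_dim 1).isOpen f⟩

theorem cmDimOne_hfib (f : X ⟶ S) [Flat f] [LocallyOfFinitePresentation f] :
    ∀ s : S, ∀ Z ∈ irreducibleComponents (↥(((cmDimOne f).ι ≫ f).fiber s) : Type u), topologicalKrullDim Z = 1 :=
  hfib_of_fibreDimAt _ fun z => (GrothLib.CurveStk.fibreDimAt_etale_source _ f z).trans z.2.2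

theorem mem_goodSet_cmDimOne_iff (f : X ⟶ S) [Flat f] [LocallyOfFinitePresentation f] (w : cmDimOne f) :
    w ∈ goodSet ((cmDimOne f).ι ≫ f) ↔ ((cmDimOne f).ι w) ∈ nodalLocus f := by
  rw [mem_goodSet_iff, good_etale_source]
  exact ⟨fun h => ⟨w.2, h⟩, fun h => h.2⟩

theorem isOpen_nodalLocus (f : X ⟶ S) [Flat f] [LocallyOfFinitePresentation f] : IsOpen (nodalLocus f) := by
  have e : nodalLocus f = (cmDimOne f).ι '' goodSet ((cmDimOne f).ι ≫ f) := by
    ext x
    constructor
    · intro hx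
      exact ⟨⟨x, hx.1⟩, (mem_goodSet_cmDimOne_iff f _).2 hx, rfl⟩
    · rintro ⟨w, hw, rfl⟩
      exact (mem_goodSet_cmDimOne_iff f w).1 hw
  rw [e]
  exact (cmDimOne f).ι.isOpenEmbedding.isOpenMap _ (isOpen_goodSet _ (cmDimOne_hfib f))

/-- Smoothness or nodality in the fibre is insensitive to base change, for families of curves. -/
theorem good_baseChange {X' S' : Scheme.{u}} {gX : X' ⟶ X} {f' : X' ⟶ S'} {f : X ⟶ S} {g : S' ⟶ S}
    (sq : IsPullback gX f' f g) [LocallyOfFiniteType f]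
    (hfib : ∀ s : S, ∀ Z ∈ irreducibleComponents (↥(f.fiber s) : Type u), topologicalKrullDim Z = 1) (x' : X') :
    Good (f'.fiberToSpecResidueField (f' x')) (f'.asFiber x') ↔
      Good (f.fiberToSpecResidueField (f (gX x'))) (f.asFiber (gX x')) := by
  obtain ⟨i, hi, hi'⟩ := GrothLib.FibreBC.exists_isPullback_fiber sq (f' x')
  haveI := GrothLib.NodeEt.locallyOfFiniteType_fiberTo f (g (f' x'))
  letI : Algebra (S.residueField (g (f' x'))) (S'.residueField (f' x')) := (g.residueFieldMap (f' x')).hom.toAlgebra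
  rw [good_asFiber_iff f _ (i (f'.asFiber x')) (gX x')
    (by rw [← Scheme.Hom.comp_apply, hi, Scheme.Hom.comp_apply, f'.fiberι_asFiber])]
  exact good_fieldExt (k := S.residueField (g (f' x'))) (L := S'.residueField (f' x')) hi' (hfib _) (f'.asFiber x')

theorem mem_nodalLocus_baseChange {X' S' : Scheme.{u}} {gX : X' ⟶ X} {f' : X' ⟶ S'} {f : X ⟶ S} {g : S' ⟶ S}
    (sq : IsPullback gX f' f g) [Flat f] [LocallyOfFinitePresentation f] (x' : X') :
    x' ∈ nodalLocus f' ↔ gX x' ∈ nodalLocus f := by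
  haveI : LocallyOfFiniteType f' := MorphismProperty.of_isPullback sq (inferInstance : LocallyOfFiniteType f)
  have h1 := (GrothLib.CurveStk.ptProp_cm_dim 1).baseChange sq x'
  suffices H : (MoreMor.IsCMAt f (gX x') ∧ FlatMor.fibreDimAt f (gX x') = 1) →
      (Good (f'.fiberToSpecResidueField (f' x')) (f'.asFiber x') ↔
        Good (f.fiberToSpecResidueField (f (gX x'))) (f.asFiber (gX x'))) from
    ⟨fun h => ⟨h1.1 h.1, (H (h1.1 h.1)).1 h.2⟩, fun h => ⟨h1.2 h.1, (H h.1).2 h.2⟩⟩
  intro hW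
  let W := cmDimOne f
  have sqW := (isPullback_morphismRestrict gX W).paste_vert sq
  have h := good_baseChange sqW (cmDimOne_hfib f) ⟨x', hW⟩
  rw [good_etale_source (gX ⁻¹ᵁ W).ι f', good_etale_source W.ι f] at h
  have e : W.ι ((gX ∣_ W) ⟨x', hW⟩) = gX x' := by
    rw [← Scheme.Hom.comp_apply, morphismRestrict_ι, Scheme.Hom.comp_apply]
    rfl
  rw [e] at h
  exact h

theorem mem_nodalLocus_etale_source {Y : Scheme.{u}} (e : Y ⟶ X) [Etale e] (f : X ⟶ S) [Flat f]
    [LocallyOfFinitePresentation f] (y : Y) : y ∈ nodalLocus (e ≫ f) ↔ e y ∈ nodalLocus f :=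
  and_congr ((GrothLib.CurveStk.ptProp_cm_dim 1).etale_source e f y) (good_etale_source e f y)

theorem isNodalFamily_iff (f : X ⟶ S) [Flat f] [LocallyOfFinitePresentation f] :
    Curv2.IsNodalFamily f ↔ ∀ x, x ∈ nodalLocus f := by
  constructor
  · intro h x
    have hfib := fun s => (h.2.2 s).1
    have hg : x ∈ goodSet f := (atWorstNodal_iff_subset f hfib (f x)).1 (h.2.2 (f x)).2 x rfl
    have hd : FlatMor.fibreDimAt f x = 1 := by
      simpa using (GrothLib.Equidim6.fibres_equidim_iff f 1).1 (by simpa using hfib) x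
    exact ⟨⟨isCMAt_of_mem_goodSet f hfib x hg, hd⟩, (mem_goodSet_iff f x).1 hg⟩
  · intro h
    refine ⟨inferInstance, inferInstance, fun s => ⟨hfib_of_fibreDimAt f (fun x => (h x).1.2) s, fun z hz => ?_⟩⟩
    exact (good_asFiber_iff f s z _ rfl).1 (h _).2

theorem isNodalFamily_restrict_iff (f : X ⟶ S) [Flat f] [LocallyOfFinitePresentation f] (V : X.Opens) :
    Curv2.IsNodalFamily (V.ι ≫ f) ↔ (V : Set X) ⊆ nodalLocus f := by
  rw [isNodalFamily_iff]
  exact ⟨fun h x hx => (mem_nodalLocus_etale_source V.ι f ⟨x, hx⟩).1 (h _),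
    fun h z => (mem_nodalLocus_etale_source V.ι f z).2 (h z.2)⟩

end GrothLib.NodeOpen11
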