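import Groth.Agent.Lib.NodeOpen11.Ram
import Mathlib.RingTheory.Jacobson.Ring

/-!
# Closed points of algebras over an algebraically closed field
-/

set_option autoImplicit false
set_option linter.all false
set_option backward.isDefEq.respectTransparency false

universe u

open TensorProduct IsLocalRing KaehlerDifferential

noncomputable section

namespace GrothLib.NodeOpen11

variable {L : Type u} [Field L] [IsAlgClosed L] {A : Type u} [CommRing A] [Algebra L A] [Algebra.FiniteType L A]
  (M : Ideal A) [M.IsMaximal]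

/-- At a maximal ideal the residue field is the base field. -/
theorem exists_sub_mem (b : Localization.AtPrime M) :
    ∃ t : L, algebraMap L (Localization.AtPrime M) t - b ∈ maximalIdeal (Localization.AtPrime M) := by
  letI := Ideal.Quotient.field M
  haveI : Module.Finite L (A ⧸ M) := finite_of_finite_type_of_isJacobsonRing L (A ⧸ M)
  have hsurj : Function.Surjective (algebraMap L (A ⧸ M)) :=
    (IsAlgClosed.algebraMap_bijective_of_isIntegral (k := L) (K := A ⧸ M)).2
  let e := IsLocalization.AtPrime.equivQuotMaximalIdeal M (Localization.AtPrime M)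
  obtain ⟨t, ht⟩ := hsurj (e.symm (Ideal.Quotient.mk _ b))
  refine ⟨t, Ideal.Quotient.eq.1 ?_⟩
  have h := congrArg e ht
  rw [RingEquiv.apply_symm_apply, IsScalarTower.algebraMap_apply L A (A ⧸ M), Ideal.Quotient.algebraMap_eq,
    IsLocalization.AtPrime.equivQuotMaximalIdeal_apply_mk, ← IsScalarTower.algebraMap_apply] at h
  exact h

omit [IsAlgClosed L] in
theorem finite_kaehler_localization : Module.Finite (Localization.AtPrime M) Ω[Localization.AtPrime M⁄L] := by
  haveI : Algebra.FormallyEtale A (Localization.AtPrime M) := Algebra.FormallyEtale.of_isLocalization M.primeCompl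
  exact Module.Finite.equiv (KaehlerDifferential.tensorKaehlerEquivOfFormallyEtale L A (Localization.AtPrime M))

omit [IsAlgClosed L] in
theorem fitt1_localization :
    fitt1 L (Localization.AtPrime M) = (fitt1 L A).map (algebraMap A (Localization.AtPrime M)) := by
  haveI : Algebra.FormallyEtale A (Localization.AtPrime M) := Algebra.FormallyEtale.of_isLocalization M.primeCompl
  rw [fitt1, fitt1, ← GrothLib.Fitting.ideal_congr
    (KaehlerDifferential.tensorKaehlerEquivOfFormallyEtale L A (Localization.AtPrime M)),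
    GrothLib.Fitting.ideal_baseChange (Localization.AtPrime M)]

omit [IsAlgClosed L] [Algebra.FiniteType L A] in
/-- An unramified local algebra with residue field the base field is the base field. -/
theorem maximalIdeal_eq_bot_of_unramified {T : Type u} [CommRing T] [IsLocalRing T] [IsNoetherianRing T]
    [Algebra L T] [Algebra.FormallyUnramified L T]
    (hres : ∀ b : T, ∃ t : L, algebraMap L T t - b ∈ maximalIdeal T) : maximalIdeal T = ⊥ := by
  obtain ⟨Dc, hDc⟩ := GrothLib.NodeEt.exists_cotangent_derivation hres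
  haveI : Subsingleton Ω[T⁄L] := inferInstance
  refine Submodule.eq_bot_of_le_smul_of_le_jacobson_bot (maximalIdeal T) _ (IsNoetherian.noetherian _) ?_
    (maximalIdeal_le_jacobson _)
  rw [smul_eq_mul, ← pow_two]
  intro x hx
  have h := hDc x hx
  rw [← Derivation.liftKaehlerDifferential_comp_D Dc x, Subsingleton.elim (D L T x) 0, map_zero, eq_comm,
    Ideal.toCotangent_eq_zero] at h
  exact h

/-- A maximal ideal outside the ramified part is one where the Fitting ideal is trivial or maximal. -/
theorem notMem_ramSet_iff :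
    (⟨M, inferInstance⟩ : PrimeSpectrum A) ∉ ramSet L A ↔
      fitt1 L (Localization.AtPrime M) = ⊤ ∨
        fitt1 L (Localization.AtPrime M) = maximalIdeal (Localization.AtPrime M) := by
  set I := fitt1 L A with hIdef
  set B := Localization.AtPrime M
  rw [fitt1_localization M]
  by_cases hIM : I ≤ M
  swap
  · refine iff_of_true (fun h => hIM (fitt1_le_of_mem h)) (Or.inl ?_)
    obtain ⟨x, hx, hxM⟩ := SetLike.not_le_iff_exists.1 hIM
    exact Ideal.eq_top_of_isUnit_mem _ (Ideal.mem_map_of_mem _ hx)
      (IsLocalization.map_units B (⟨x, hxM⟩ : M.primeCompl))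
  haveI hM' : (M.map (Ideal.Quotient.mk I)).IsMaximal :=
    Ideal.IsMaximal.map_of_surjective_of_ker_le Ideal.Quotient.mk_surjective (by rwa [Ideal.mk_ker])
  set M' := M.map (Ideal.Quotient.mk I) with hM'def
  have hcomap : M'.comap (Ideal.Quotient.mk I) = M := by
    rw [Ideal.comap_map_of_surjective _ Ideal.Quotient.mk_surjective, ← RingHom.ker_eq_comap_bot, Ideal.mk_ker,
      sup_eq_left]
    exact hIM
  have hq : PrimeSpectrum.comap (Ideal.Quotient.mk I) ⟨M', inferInstance⟩ = (⟨M, inferInstance⟩ : PrimeSpectrum A) :=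
    PrimeSpectrum.ext hcomap
  rw [← hq, mem_ramSet_iff, not_not]
  have hmap : I.map (algebraMap A B) ≤ maximalIdeal B := by
    rw [← Localization.AtPrime.map_eq_maximalIdeal]
    exact Ideal.map_mono hIM
  have hne : I.map (algebraMap A B) ≠ ⊤ := fun h => (maximalIdeal.isMaximal B).ne_top (top_le_iff.1 (h ▸ hmap))
  rw [or_iff_right hne]
  haveI : Algebra.FiniteType L (A ⧸ I) :=
    Algebra.FiniteType.of_surjective (Ideal.Quotient.mkₐ L _) Ideal.Quotient.mk_surjective
  set T := Localization.AtPrime M'
  haveI : IsNoetherianRing (A ⧸ I) := Algebra.FiniteType.isNoetherianRing L _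
  haveI : IsNoetherianRing T := IsLocalization.isNoetherianRing M'.primeCompl _ inferInstance
  have hresT := exists_sub_mem (L := L) M'
  constructor
  · intro hu
    haveI : Algebra.FormallyUnramified L T := hu
    have h0 := maximalIdeal_eq_bot_of_unramified hresT
    refine le_antisymm hmap ?_
    rw [← Localization.AtPrime.map_eq_maximalIdeal, Ideal.map_le_iff_le_comap]
    intro x hx
    have h1 : algebraMap (A ⧸ I) T (Ideal.Quotient.mk I x) = 0 := by
      rw [← Submodule.mem_bot T, ← h0, ← Localization.AtPrime.map_eq_maximalIdeal]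
      exact Ideal.mem_map_of_mem _ (Ideal.mem_map_of_mem _ hx)
    rw [IsLocalization.map_eq_zero_iff M'.primeCompl] at h1
    obtain ⟨⟨s, hs⟩, hsx⟩ := h1
    obtain ⟨s, rfl⟩ := Ideal.Quotient.mk_surjective s
    rw [← map_mul, Ideal.Quotient.eq_zero_iff_mem] at hsx
    have hsM : s ∉ M := fun h => hs (Ideal.mem_map_of_mem _ h)
    rw [Ideal.mem_comap, ← Ideal.unit_mul_mem_iff_mem _ (IsLocalization.map_units B (⟨s, hsM⟩ : M.primeCompl)),
      ← map_mul]
    exact Ideal.mem_map_of_mem _ hsx
  · intro heq
    have h0 : ∀ z ∈ maximalIdeal T, z = 0 := by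
      suffices maximalIdeal T ≤ ⊥ from fun z hz => (Submodule.mem_bot T).1 (this hz)
      refine (Localization.AtPrime.map_eq_maximalIdeal).symm.le.trans
        (Ideal.map_le_iff_le_comap.2 (Ideal.map_le_iff_le_comap.2 fun x hx => ?_))
      have h1 : algebraMap A B x ∈ I.map (algebraMap A B) := by
        rw [heq, ← Localization.AtPrime.map_eq_maximalIdeal]
        exact Ideal.mem_map_of_mem _ hx
      rw [IsLocalization.mem_map_algebraMap_iff M.primeCompl] at h1
      obtain ⟨⟨⟨y, hy⟩, ⟨s, hs⟩⟩, hys⟩ := h1
      rw [← map_mul, IsLocalization.eq_iff_exists M.primeCompl] at hys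
      obtain ⟨⟨t, ht⟩, hts⟩ := hys
      rw [Ideal.mem_comap, Ideal.mem_comap, Submodule.mem_bot, IsLocalization.map_eq_zero_iff M'.primeCompl]
      have hts' : t * s ∉ M := (inferInstance : M.IsMaximal).isPrime.mul_notMem ht hs
      refine ⟨⟨Ideal.Quotient.mk I (t * s), fun h => hts' (by rw [← hcomap]; exact h)⟩, ?_⟩
      rw [← map_mul, Ideal.Quotient.eq_zero_iff_mem]
      simp only at hts
      rw [show t * s * x = t * (x * s) by ring, hts]
      exact Ideal.mul_mem_left _ _ hy
    exact Algebra.FormallyUnramified.of_surjective (Algebra.ofId L T) fun b => by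
      obtain ⟨t, ht⟩ := hresT b
      exact ⟨t, sub_eq_zero.1 (h0 _ ht)⟩

/-- Regular points and nodes are outside the ramified part. -/
theorem notMem_ramSet_of_good (hdim : ringKrullDim (Localization.AtPrime M) = 1)
    (h : IsRegularLocalRing (Localization.AtPrime M) ∨ GrothLib.NodeEt.NodeForm (Localization.AtPrime M)) :
    (⟨M, inferInstance⟩ : PrimeSpectrum A) ∉ ramSet L A := by
  haveI : IsNoetherianRing A := Algebra.FiniteType.isNoetherianRing L A
  haveI : IsNoetherianRing (Localization.AtPrime M) := IsLocalization.isNoetherianRing M.primeCompl _ inferInstance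
  haveI := finite_kaehler_localization (L := L) M
  rw [notMem_ramSet_iff]
  exact h.imp (fitting_eq_top_iff (exists_sub_mem M) hdim).2 (fitting_of_nodeForm (exists_sub_mem M))

/-- Points outside the ramified part with a regular element are regular or nodes. -/
theorem good_of_notMem_ramSet (hdim : ringKrullDim (Localization.AtPrime M) = 1)
    (hreg : ∃ z ∈ maximalIdeal (Localization.AtPrime M), IsSMulRegular (Localization.AtPrime M) z)
    (h : (⟨M, inferInstance⟩ : PrimeSpectrum A) ∉ ramSet L A) :
    IsRegularLocalRing (Localization.AtPrime M) ∨ GrothLib.NodeEt.NodeForm (Localization.AtPrime M) := by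
  haveI : IsNoetherianRing A := Algebra.FiniteType.isNoetherianRing L A
  haveI : IsNoetherianRing (Localization.AtPrime M) := IsLocalization.isNoetherianRing M.primeCompl _ inferInstance
  haveI := finite_kaehler_localization (L := L) M
  exact ((notMem_ramSet_iff M).1 h).imp (fitting_eq_top_iff (exists_sub_mem M) hdim).1
    (nodeForm_of_fitting (exists_sub_mem M) hdim hreg)

omit [Algebra L A] [Algebra.FiniteType L A] [M.IsMaximal] in
/-- A node has a regular element in its maximal ideal. -/
theorem exists_regular_of_nodeForm {B : Type u} [CommRing B] [IsLocalRing B] [IsNoetherianRing B] [Algebra L B]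
    (hres : ∀ b : B, ∃ t : L, algebraMap L B t - b ∈ maximalIdeal B)
    (h : GrothLib.NodeEt.NodeForm B) : ∃ z ∈ maximalIdeal B, IsSMulRegular B z := by
  classical
  obtain ⟨e, -⟩ := (GrothLib.NodeEt.isOrdDoublePt_iff_nodeForm hres).2 h
  set S := AdicCompletion (maximalIdeal B) B
  by_contra hcon
  have hsub : (maximalIdeal B : Set B) ⊆ ⋃ p ∈ associatedPrimes B B, (p : Set B) := by
    rw [biUnion_associatedPrimes_eq_compl_nonZeroDivisors]
    exact fun z hz hz' => hcon ⟨z, hz, fun a b hab =>
      mul_cancel_left_mem_nonZeroDivisors hz' |>.1 hab⟩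
  obtain ⟨p, hp, hle⟩ := (Ideal.subset_union_prime_finite (associatedPrimes.finite B B) ⊥ ⊥
    (fun p hp _ _ => hp.isPrime)).1 hsub
  obtain ⟨hpp, s, hs⟩ := isAssociatedPrime_iff.1 hp
  have hs0 : s ≠ 0 := fun h0 => hpp.ne_top (by rw [hs, h0]; simp)
  have hkill : ∀ z ∈ maximalIdeal B, z * s = 0 := fun z hz => by
    have := hle hz
    rw [hs, Submodule.mem_colon_singleton, Submodule.mem_bot, smul_eq_mul] at this
    exact this
  have hinj : Function.Injective (algebraMap B S) := AdicCompletion.of_injective (maximalIdeal B) B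
  refine hs0 (hinj ?_)
  rw [map_zero]
  apply e.injective
  rw [map_zero]
  obtain ⟨f, hf⟩ := Ideal.Quotient.mk_surjective (e (algebraMap B S s))
  rw [← hf, Ideal.Quotient.eq_zero_iff_mem]
  refine GrothLib.NodeFrob.mem_span_of_axis fun i => ?_
  let Q := MvPowerSeries (Fin 2) L ⧸ Ideal.span {(MvPowerSeries.X 0 * MvPowerSeries.X 1 : MvPowerSeries (Fin 2) L)}
  have hm : ∀ w ∈ maximalIdeal S, w * algebraMap B S s = 0 := by
    intro w hw
    rw [AdicCompletion.maximalIdeal_eq_map] at hw
    refine Submodule.span_induction ?_ (zero_mul _) (fun a b _ _ ha hb => by rw [add_mul, ha, hb, add_zero])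
      (fun a b _ hb => by rw [smul_eq_mul, mul_assoc, hb, mul_zero]) hw
    rintro _ ⟨z, hz, rfl⟩
    rw [← map_mul, hkill z hz, map_zero]
  have hX : MvPowerSeries.X i * f ∈
      Ideal.span {(MvPowerSeries.X 0 * MvPowerSeries.X 1 : MvPowerSeries (Fin 2) L)} := by
    rw [← Ideal.Quotient.eq_zero_iff_mem, map_mul, hf]
    obtain ⟨w, hw⟩ := e.surjective (Ideal.Quotient.mk _ (MvPowerSeries.X i))
    rw [← hw, ← map_mul, hm w ?_, map_zero]
    intro hu
    have hu' : IsUnit (e w) := hu.map e
    rw [hw] at hu'
    obtain ⟨g, hg⟩ := hu'.exists_right_inv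
    obtain ⟨g, rfl⟩ := Ideal.Quotient.mk_surjective g
    rw [← map_mul, ← map_one (Ideal.Quotient.mk _), Ideal.Quotient.eq] at hg
    have := GrothLib.NodeFrob.axis_mem_span hg (i + 1)
    rw [map_sub, map_mul, map_one, GrothLib.NodeFrob.axis_X (by fin_cases i <;> decide), zero_mul, zero_sub,
      neg_eq_zero] at this
    exact one_ne_zero this
  have hXi : GrothLib.NodeFrob.axis i (MvPowerSeries.X i : MvPowerSeries (Fin 2) L) ≠ 0 := fun h0 => by
    have := congrArg (PowerSeries.coeff 1) h0
    simp at this
  have := GrothLib.NodeFrob.axis_mem_span hX i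
  rw [map_mul] at this
  exact (mul_eq_zero.1 this).resolve_left hXi

end GrothLib.NodeOpen11
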