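import Groth.Agent.Lib.NodeOpen11.Pointwise
import Groth.Agent.Lib.CurveLocus.Basic

/-!
# The pointwise criterion over an arbitrary field
-/

set_option autoImplicit false
set_option linter.all false
set_option backward.isDefEq.respectTransparency false

universe u

open CategoryTheory Limits AlgebraicGeometry IsLocalRing TensorProduct

noncomputable section

namespace GrothLib.NodeOpen11

attribute [local instance] Algebra.TensorProduct.rightAlgebra

variable {k : Type u} [Field k] {A : Type u} [CommRing A] [Algebra k A] [Algebra.FiniteType k A]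

/-- Smooth points and nodes of a curve are the Cohen–Macaulay points outside the ramified part. -/
theorem good_iff
    (hequi : ∀ W ∈ irreducibleComponents (Spec (CommRingCat.of A) : Type u), topologicalKrullDim W = 1)
    (q : PrimeSpectrum A) :
    Good (Spec.map (CommRingCat.ofHom (algebraMap k A))) q ↔
      MoreMor.IsCMAt (Spec.map (CommRingCat.ofHom (algebraMap k A))) q ∧ q ∉ ramSet k A := by
  let L := AlgebraicClosure k
  let T := L ⊗[k] A
  let sA := Spec.map (CommRingCat.ofHom (algebraMap k A))
  let sT := Spec.map (CommRingCat.ofHom (algebraMap L T))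
  let g := Spec.map (CommRingCat.ofHom (algebraMap k L))
  let ι := Spec.map (CommRingCat.ofHom (algebraMap A T))
  have sq : IsPullback ι sT sA g :=
    isPullback_SpecMap_of_isPushout _ _ _ _
      (CommRingCat.isPushout_iff_isPushout.mpr (Algebra.IsPushout.symm (inferInstance : Algebra.IsPushout k L A T)))
  haveI : LocallyOfFiniteType sA :=
    (HasRingHomProperty.Spec_iff (P := @LocallyOfFiniteType)).2 (RingHom.finiteType_algebraMap.2 ‹_›)
  haveI : IsLocallyNoetherian (Spec (CommRingCat.of A)) := LocallyOfFiniteType.isLocallyNoetherian sA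
  haveI : LocallyOfFinitePresentation sA := GrothLib.LocProp.locallyOfFinitePresentation_of_isLocallyNoetherian sA
  haveI : LocallyOfFiniteType sT := MorphismProperty.of_isPullback sq ‹LocallyOfFiniteType sA›
  haveI := GrothLib.NodeEt.surjective_specMap_field k L (algebraMap k L)
  haveI : Surjective ι := MorphismProperty.of_isPullback sq.flip ‹_›
  obtain ⟨q', hq'⟩ := ι.surjective q
  have hcomp : PrimeSpectrum.comap (algebraMap A T) q' = q := hq'
  haveI : Algebra.FiniteType L T := inferInstance
  have key := good_iff_algClosed (L := L) (A := T) (GrothLib.NodeEt.components_dim_of_isPullback sA sq 1 hequi) q'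
  have hram : q' ∈ ramSet L T ↔ q ∈ ramSet k A := by
    rw [mem_ramSet_baseChange (R := k) (A := A) L T q', hcomp]
  have hcm : MoreMor.IsCMAt sT q' ↔ MoreMor.IsCMAt sA q := by
    rw [GrothLib.CMMor6.isCMAt_iff, GrothLib.CMMor6.isCMAt_iff,
      GrothLib.CMMor6.isCMAt_baseChange_iff_of_finiteType sq q', hq']
    haveI : Flat sA := GrothLib.CurveLocus.flat_to_spec_field sA
    haveI : Flat sT := GrothLib.CurveLocus.flat_to_spec_field sT
    exact and_congr_left fun _ => iff_of_true (Flat.stalkMap sT q') (Flat.stalkMap sA q)
  have hgood : Good sT q' ↔ Good sA q := by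
    let e := sq.isoPullback
    have hz : pullback.fst sA g (e.hom q') = q := by
      rw [← Scheme.Hom.comp_apply, sq.isoPullback_hom_fst, hq']
    constructor
    · rintro (h | h)
      · refine Or.inl ?_
        haveI : Flat g := GrothLib.AlgSp.flat_to_field (k := k) g
        rw [← hz]
        refine GrothLib.LocProp.smooth_nhd_of_baseChange sA g (e.hom q') (Flat.stalkMap g _) ?_
        refine (GrothLib.FibClos.nhd_comp_openImmersion e.hom (pullback.snd _ _) _).mp ?_
        rw [sq.isoPullback_hom_snd]
        exact h
      · refine Or.inr ?_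
        obtain ⟨hc', -, hnf⟩ := (GrothLib.NodeEt.isNode_iff_nodeForm sT q').1 h
        have hzc : IsClosed ({e.hom q'} : Set (pullback sA g : Scheme.{u})) := by
          rw [← Set.image_singleton]
          exact e.hom.homeomorph.isClosedMap _ hc'
        haveI : IsIntegralHom g := IsIntegralHom.SpecMap_iff.mpr (Algebra.IsIntegral.isIntegral (R := k) (A := L))
        have hqc : IsClosed ({q} : Set (Spec (CommRingCat.of A))) := by
          haveI : IsIntegralHom ι := MorphismProperty.of_isPullback sq.flip ‹_›
          rw [← hq', ← Set.image_singleton]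
          exact ι.isClosedMap _ hc'
        refine (GrothLib.NodeEt.isNode_iff_odp sA L (e.hom q') q hz).2 ⟨hqc, ?_⟩
        refine (GrothLib.NodeEt.odp_iff_nodeForm_stalk sA L (e.hom q') hzc).2 ?_
        exact hnf.of_ringEquiv (asIso (e.hom.stalkMap q')).commRingCatIsoToRingEquiv.symm
    · rintro (h | h)
      · exact Or.inl (GrothLib.NodeEt.smooth_nhd_preimage sq q' (hq' ▸ h))
      · refine Or.inr (GrothLib.NodeEt.isNode_of_isPullback sA sq q' ?_ (hq' ▸ h))
        have hzc := GrothLib.NodeEt.isClosed_singleton_bc sA L (e.hom q') (by
          show IsClosed ({pullback.fst sA g (e.hom q')} : Set _)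
          rw [hz]; exact h.1)
        have : ({q'} : Set (Spec (CommRingCat.of T))) = e.hom ⁻¹' {e.hom q'} := by
          ext w
          exact ⟨fun hw => congrArg _ hw, fun hw => e.hom.homeomorph.injective hw⟩
        rw [this]
        exact hzc.preimage e.hom.continuous
  rw [← hgood, key, hcm, hram]

end GrothLib.NodeOpen11
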