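import Groth.Agent.Lib.NodeOpen11.Open
import Groth.Agent.Lib.FittSheaf.Basic
import Mathlib.AlgebraicGeometry.IdealSheaf.Subscheme
import Mathlib.AlgebraicGeometry.Morphisms.FormallyUnramified

/-!
# Unramifiedness of the subscheme cut out by the first Fitting ideal of the differentials
-/

set_option autoImplicit false
set_option linter.all false
set_option backward.isDefEq.respectTransparency false

universe u

open CategoryTheory Limits AlgebraicGeometry

noncomputable section

namespace GrothLib.NodeOpen11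

theorem formallyUnramified_quotient_iff (R A : Type u) [CommRing R] [CommRing A] [Algebra R A] (J : Ideal A)
    (hJ : J = fitt1 R A) : Algebra.FormallyUnramified R (A ⧸ J) ↔ ramSet R A = ∅ := by
  subst hJ
  rw [Algebra.formallyUnramified_iff, ramSet, Set.image_eq_empty, Module.support_eq_empty_iff]

variable {X S : Scheme.{u}} (f : X ⟶ S)

/-- An affine chart of a morphism. -/
structure AffChart where
  U : X.affineOpens
  V : S.affineOpens
  le : U.1 ≤ f ⁻¹ᵁ V.1

variable {f}

/-- The ring map of a chart. -/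
abbrev AffChart.algebra (c : AffChart f) : Algebra Γ(S, c.V.1) Γ(X, c.U.1) := (f.appLE c.V.1 c.U.1 c.le).hom.toAlgebra

/-- The ramified part in a chart. -/
def AffChart.ram (c : AffChart f) : Set (PrimeSpectrum Γ(X, c.U.1)) :=
  @ramSet Γ(S, c.V.1) Γ(X, c.U.1) _ _ c.algebra

theorem exists_affChart (x : X) : ∃ c : AffChart f, x ∈ c.U.1 := by
  obtain ⟨V, hV, hxV, -⟩ := exists_isAffineOpen_mem_and_subset (X := S) (x := f x) (U := ⊤) trivial
  obtain ⟨U, hU, hxU, hUV⟩ := exists_isAffineOpen_mem_and_subset (X := X) (x := x) (U := f ⁻¹ᵁ V) hxV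
  exact ⟨⟨⟨U, hU⟩, ⟨V, hV⟩, hUV⟩, hxU⟩

/-- `V(Fitt₁ Ω)` is unramified iff the ramified part of every chart is empty. -/
theorem formallyUnramified_fittingSubscheme_iff (M : X.Modules) [M.IsQuasicoherent] (hM : CohB1.IsFT M)
    (hsec : ∀ c : AffChart f, letI := c.algebra
      Nonempty (Γ(M, c.U.1) ≃ₗ[Γ(X, c.U.1)] KaehlerDifferential Γ(S, c.V.1) Γ(X, c.U.1))) :
    FormallyUnramified ((Fitt.sheafIdeal M 1).subschemeι ≫ f) ↔ ∀ c : AffChart f, c.ram = ∅ := by
  classical
  set I := Fitt.sheafIdeal M 1
  have hI : ∀ c : AffChart f, letI := c.algebra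
      I.ideal c.U = fitt1 Γ(S, c.V.1) Γ(X, c.U.1) := by
    intro c
    letI := c.algebra
    obtain ⟨e⟩ := hsec c
    haveI := GrothLib.FittSheaf.finite_sections hM c.U
    rw [GrothLib.FittSheaf.sheafIdeal_ideal hM, fitt1, GrothLib.Fitting.ideal_congr e]
  have key : ∀ c : AffChart f,
      FormallyUnramified (I.subschemeCover.f c.U ≫ I.subschemeι ≫ f) ↔ c.ram = ∅ := by
    intro c
    letI := c.algebra
    have h1 : I.subschemeCover.f c.U ≫ I.subschemeι ≫ f =
        Spec.map (CommRingCat.ofHom (algebraMap Γ(S, c.V.1) (Γ(X, c.U.1) ⧸ I.ideal c.U))) ≫ c.V.2.fromSpec := by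
      rw [← Category.assoc, Scheme.IdealSheafData.subschemeCover_map_subschemeι,
        Scheme.IdealSheafData.glueDataObjι_ι, Category.assoc,
        ← IsAffineOpen.SpecMap_appLE_fromSpec f c.V.2 c.U.2 c.le, ← Spec.map_comp_assoc]
      rfl
    rw [h1]
    haveI := c.V.2.isOpenImmersion_fromSpec
    have h2 : FormallyUnramified (Spec.map (CommRingCat.ofHom (algebraMap Γ(S, c.V.1) (Γ(X, c.U.1) ⧸ I.ideal c.U))) ≫
        c.V.2.fromSpec) ↔
        FormallyUnramified (Spec.map (CommRingCat.ofHom (algebraMap Γ(S, c.V.1) (Γ(X, c.U.1) ⧸ I.ideal c.U)))) :=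
      ⟨fun h => FormallyUnramified.of_comp _ c.V.2.fromSpec, fun h => MorphismProperty.comp_mem (W := @FormallyUnramified) _ _ h inferInstance⟩
    rw [h2, HasRingHomProperty.Spec_iff (P := @FormallyUnramified)]
    exact RingHom.formallyUnramified_algebraMap.trans (formallyUnramified_quotient_iff _ _ _ (hI c))
  constructor
  · intro h c
    exact (key c).1 (MorphismProperty.comp_mem (W := @FormallyUnramified) _ _ inferInstance h)
  · intro h
    refine (IsZariskiLocalAtSource.iff_of_openCover (P := @FormallyUnramified)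
      (Scheme.AffineOpenCover.openCover
        { I₀ := AffChart f
          X := fun c => .of (Γ(X, c.U.1) ⧸ I.ideal c.U)
          f := fun c => I.subschemeCover.f c.U
          idx := fun x => (exists_affChart (f := f) (I.subschemeι x)).choose
          covers := fun x => by
            have hx := (exists_affChart (f := f) (I.subschemeι x)).choose_spec
            exact (I.opensRange_subschemeCover_map _).ge hx })).2 fun c => ?_
    exact (key c).2 (h c)

/-- The ramified parts are empty when all points are smooth points or nodes. -/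
theorem ram_eq_empty [Flat f] [LocallyOfFinitePresentation f]
    (hfib : ∀ s : S, ∀ Z ∈ irreducibleComponents (↥(f.fiber s) : Type u), topologicalKrullDim Z = 1)
    (hgood : ∀ x, x ∈ goodSet f) (c : AffChart f) : c.ram = ∅ := by
  letI := c.algebra
  have hfp := LocallyOfFinitePresentation.finitePresentation_appLE f c.V.2 c.U.2 c.le
  haveI : Algebra.FiniteType Γ(S, c.V.1) Γ(X, c.U.1) :=
    RingHom.finiteType_algebraMap.mp (RingHom.FiniteType.of_finitePresentation hfp)
  have comm : c.U.2.fromSpec ≫ f =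
      Spec.map (CommRingCat.ofHom (algebraMap Γ(S, c.V.1) Γ(X, c.U.1))) ≫ c.V.2.fromSpec :=
    (c.V.2.SpecMap_appLE_fromSpec f c.U.2 c.le).symm
  haveI := c.U.2.isOpenImmersion_fromSpec
  haveI := c.V.2.isOpenImmersion_fromSpec
  exact Set.eq_empty_iff_forall_notMem.2 fun q =>
    ((mem_goodSet_iff_chart f hfib c.U.2.fromSpec c.V.2.fromSpec comm q).1 (hgood _)).2

end GrothLib.NodeOpen11
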