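import Groth.Agent.Lib.NodeEt.Kaehler
import Groth.Agent.Lib.Fitting.Basic
import Groth.Agent.Lib.NodeFrob.PthClosed
import Mathlib.Algebra.MvPolynomial.PDeriv
import Mathlib.RingTheory.RegularLocalRing.Defs

/-!
# Nodes in terms of the first Fitting ideal of the differentials

For a local algebra `B` of dimension one with residue field the algebraically closed ground field: regular iff
`Fitt₁ Ω = ⊤`, and, in the presence of a regular element in the maximal ideal, a node iff `Fitt₁ Ω = m`.
-/

set_option autoImplicit false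
set_option linter.style.haveILetI false
set_option backward.isDefEq.respectTransparency false

universe u

open IsLocalRing KaehlerDifferential

noncomputable section

namespace GrothLib.NodeOpen11

theorem det_mem_pow {R : Type*} [CommRing R] {m : ℕ} (I : Ideal R) (M : Matrix (Fin m) (Fin m) R)
    (h : ∀ i j, M i j ∈ I) : M.det ∈ I ^ m := by
  rw [Matrix.det_apply]
  refine Submodule.sum_mem _ fun σ _ => ?_
  rw [Units.smul_def]
  refine zsmul_mem ?_ _
  have := Ideal.prod_mem_prod (s := Finset.univ) (I := fun _ : Fin m => I) (x := fun i => M (σ i) i)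
    fun i _ => h _ _
  simpa using this

variable {L : Type u} [Field L] {B : Type u} [CommRing B] [IsLocalRing B] [IsNoetherianRing B] [Algebra L B]
  (hres : ∀ b : B, ∃ t : L, algebraMap L B t - b ∈ maximalIdeal B)

include hres in
/-- The differentials of generators of the maximal ideal generate. -/
theorem span_D_eq_top [Module.Finite B Ω[B⁄L]] {n : ℕ} (u : Fin n → B)
    (hu : maximalIdeal B = Ideal.span (Set.range u)) :
    Submodule.span B (Set.range fun i => D L B (u i)) = ⊤ := by
  refine top_le_iff.1 (Submodule.le_of_le_smul_of_le_jacobson_bot (Module.Finite.fg_top)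
    (maximalIdeal_le_jacobson (⊥ : Ideal B)) ?_)
  rw [← KaehlerDifferential.span_range_derivation L B]
  refine Submodule.span_le.2 ?_
  rintro _ ⟨b, rfl⟩
  obtain ⟨t, ht⟩ := hres b
  rw [hu, Submodule.mem_span_range_iff_exists_fun] at ht
  obtain ⟨c, hc⟩ := ht
  have hb : D L B b = -∑ i, (c i • D L B (u i) + u i • D L B (c i)) := by
    have h1 := congrArg (D L B) hc
    rw [map_sub, Derivation.map_algebraMap, zero_sub, map_sum] at h1
    rw [eq_comm, neg_eq_iff_eq_neg, ← h1]
    exact Finset.sum_congr rfl fun i _ => (Derivation.leibniz _ _ _).symm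
  rw [SetLike.mem_coe, hb]
  refine neg_mem (Submodule.sum_mem _ fun i _ => add_mem ?_ ?_)
  · exact Submodule.mem_sup_left (Submodule.smul_mem _ _ (Submodule.subset_span ⟨i, rfl⟩))
  · exact Submodule.mem_sup_right (Submodule.smul_mem_smul (hu ▸ Ideal.subset_span ⟨i, rfl⟩) (Submodule.subset_span ⟨_, rfl⟩))

include hres in
/-- Relations between differentials of independent generators have coefficients in the maximal ideal. -/
theorem rel_coeff_mem {n : ℕ} (u : Fin n → B) (hu : ∀ i, u i ∈ maximalIdeal B)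
    (hind : ∀ c : Fin n → B, ∑ i, c i * u i ∈ maximalIdeal B ^ 2 → ∀ i, c i ∈ maximalIdeal B)
    (c : Fin n → B) (hc : ∑ i, c i • D L B (u i) = 0) : ∀ i, c i ∈ maximalIdeal B := by
  obtain ⟨Dc, hDc⟩ := GrothLib.NodeEt.exists_cotangent_derivation hres
  refine hind c ?_
  have h1 := congrArg Dc.liftKaehlerDifferential hc
  simp only [map_sum, map_smul, Derivation.liftKaehlerDifferential_comp_D, map_zero] at h1
  have h2 : (maximalIdeal B).toCotangent (∑ i, c i • ⟨u i, hu i⟩) = 0 := by
    rw [map_sum]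
    simpa only [map_smul, hDc _ (hu _)] using h1
  rw [Ideal.toCotangent_eq_zero] at h2
  simpa [Submodule.coe_sum] using h2

include hres in
/-- The Fitting ideal of the differentials is small when there are many generators. -/
theorem fitting_le_pow [Module.Finite B Ω[B⁄L]] {n : ℕ} (u : Fin n → B)
    (hu : maximalIdeal B = Ideal.span (Set.range u))
    (hind : ∀ c : Fin n → B, ∑ i, c i * u i ∈ maximalIdeal B ^ 2 → ∀ i, c i ∈ maximalIdeal B) :
    Fitt.ideal B Ω[B⁄L] 1 ≤ maximalIdeal B ^ (n - 1) := by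
  rw [GrothLib.Fitting.ideal_eq_minors _ (span_D_eq_top hres u hu) 1, GrothLib.Fitting.minors_le_iff]
  intro z e hz
  exact det_mem_pow _ _ fun i j =>
    rel_coeff_mem hres u (fun i => hu ▸ Ideal.subset_span ⟨i, rfl⟩) hind _ (GrothLib.Fitting.mem_rel.1 (hz j)) _

omit [Field L] [Algebra L B] in
/-- Minimal generators of the maximal ideal. -/
theorem exists_minimal : ∃ (n : ℕ) (u : Fin n → B), maximalIdeal B = Ideal.span (Set.range u) ∧
    ∀ c : Fin n → B, ∑ i, c i * u i ∈ maximalIdeal B ^ 2 → ∀ i, c i ∈ maximalIdeal B := by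
  haveI : Module.Finite B (maximalIdeal B) := Module.Finite.iff_fg.2 (IsNoetherian.noetherian _)
  obtain ⟨n, g, hg, hmin⟩ := GrothLib.NodeEt.exists_minimal_generators (A := B) (maximalIdeal B)
  have hspan : maximalIdeal B = Ideal.span (Set.range fun i => (g i : B)) := by
    have h1 := congrArg (Submodule.map (maximalIdeal B).subtype) hg
    rw [Submodule.map_span, Submodule.map_top, Submodule.range_subtype, ← Set.range_comp] at h1
    exact h1.symm
  refine ⟨n, fun i => (g i : B), hspan, fun c hc i => ?_⟩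
  obtain ⟨d, hd, hd'⟩ : ∃ d : Fin n → B, (∀ i, d i ∈ maximalIdeal B) ∧
      ∑ i, d i * (g i : B) = ∑ i, c i * (g i : B) := by
    rw [pow_two] at hc
    generalize ∑ i, c i * (g i : B) = w at hc ⊢
    induction hc using Submodule.mul_induction_on' with
    | mem_mul_mem s hs t ht =>
      rw [hspan, Submodule.mem_span_range_iff_exists_fun] at ht
      obtain ⟨a, ha⟩ := ht
      exact ⟨fun i => s * a i, fun i => Ideal.mul_mem_right _ _ hs, by
        simp [← ha, Finset.mul_sum, mul_assoc]⟩
    | add s _ t _ hs ht =>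
      obtain ⟨a, ha, ha'⟩ := hs
      obtain ⟨b, hb, hb'⟩ := ht
      exact ⟨a + b, fun i => add_mem (ha i) (hb i), by simp [add_mul, Finset.sum_add_distrib, ha', hb']⟩
  have h0 : ∑ i, (c i - d i) • g i = 0 := Subtype.ext (by
    simp [Submodule.coe_sum, sub_mul, Finset.sum_sub_distrib, hd'])
  simpa using add_mem (hmin (fun i => c i - d i) h0 i) (hd i)

omit [Field L] [Algebra L B] in
theorem sq_lt_maximalIdeal (hdim : ringKrullDim B = 1) : ¬ maximalIdeal B ≤ maximalIdeal B ^ 2 := by
  intro h
  have h0 : maximalIdeal B = ⊥ := Submodule.eq_bot_of_le_smul_of_le_jacobson_bot (maximalIdeal B) _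
    (IsNoetherian.noetherian _) (by rwa [smul_eq_mul, ← pow_two]) (maximalIdeal_le_jacobson _)
  rw [ringKrullDim_eq_zero_of_isField ((IsLocalRing.isField_iff_maximalIdeal_eq).2 h0)] at hdim
  exact zero_ne_one hdim

include hres in
/-- Regular one-dimensional algebras are those with trivial first Fitting ideal of differentials. -/
theorem fitting_eq_top_iff [Module.Finite B Ω[B⁄L]] (hdim : ringKrullDim B = 1) :
    Fitt.ideal B Ω[B⁄L] 1 = ⊤ ↔ IsRegularLocalRing B := by
  obtain ⟨n, u, hu, hind⟩ := exists_minimal (B := B)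
  constructor
  · intro h
    have hn : n ≤ 1 := by
      by_contra hn
      have h1 := (h ▸ fitting_le_pow hres u hu hind).trans (Ideal.pow_le_pow_right (show 1 ≤ n - 1 by omega))
      rw [pow_one, top_le_iff] at h1
      exact (maximalIdeal.isMaximal B).ne_top h1
    refine IsRegularLocalRing.of_spanFinrank_maximalIdeal_le B ?_
    rw [hdim]
    have h2 : (maximalIdeal B).spanFinrank ≤ n := by
      rw [hu]
      refine (Submodule.spanFinrank_span_le_ncard_of_finite (Set.finite_range u)).trans ?_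
      calc (Set.range u).ncard ≤ (Set.univ : Set (Fin n)).ncard := by
            rw [← Set.image_univ]; exact Set.ncard_image_le
        _ = n := by simp
    exact_mod_cast h2.trans hn
  · intro h
    have hfg : (maximalIdeal B).FG := IsNoetherian.noetherian _
    have hs : (maximalIdeal B).spanFinrank = 1 := by
      have := h.spanFinrank_maximalIdeal
      rw [hdim] at this
      exact_mod_cast this
    rw [← Submodule.FG.generators_ncard hfg, Set.ncard_eq_one] at hs
    obtain ⟨p, hp⟩ := hs
    have hmp : maximalIdeal B = Ideal.span (Set.range fun _ : Fin 1 => p) := by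
      rw [Set.range_const, ← hp]
      exact (Submodule.span_generators _).symm
    exact GrothLib.Fitting.ideal_eq_top_of_le _ (span_D_eq_top hres _ hmp) le_rfl

include hres in
/-- At a node the first Fitting ideal of the differentials is the maximal ideal. -/
theorem fitting_of_nodeForm [IsAlgClosed L] [Module.Finite B Ω[B⁄L]] (h : GrothLib.NodeEt.NodeForm B) :
    Fitt.ideal B Ω[B⁄L] 1 = maximalIdeal B := by
  obtain ⟨u, v, hm, huv⟩ := GrothLib.NodeEt.exists_uv hres h
  have hrange : Set.range ![u, v] = {u, v} := by simp [Matrix.range_cons, Set.pair_comm]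
  have hu : maximalIdeal B = Ideal.span (Set.range ![u, v]) := by rw [hrange, hm]
  have hind : ∀ c : Fin 2 → B, ∑ i, c i * ![u, v] i ∈ maximalIdeal B ^ 2 → ∀ i, c i ∈ maximalIdeal B := by
    intro c hc
    have := h.linear_coeff_mem hm (p := c 0) (q := c 1) (by simpa [Fin.sum_univ_two] using hc)
    exact Fin.forall_fin_two.2 ⟨this.1, this.2⟩
  refine le_antisymm (by simpa using fitting_le_pow hres _ hu hind) ?_
  obtain ⟨s, hs, hs'⟩ : ∃ s : Fin 2 → B, (∀ i, s i ∈ maximalIdeal B ^ 2) ∧
      ∑ i, s i • D L B (![u, v] i) = D L B (u * v) := by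
    have h1 := GrothLib.NodeEt.D_mem_of_mem_pow (D L B) (maximalIdeal B) 2 _ huv
    generalize D L B (u * v) = w at h1 ⊢
    induction h1 using Submodule.smul_induction_on' with
    | smul a ha z _ =>
      obtain ⟨c, hc⟩ := Submodule.mem_span_range_iff_exists_fun B |>.1
        ((span_D_eq_top hres _ hu).ge (Submodule.mem_top (x := z)))
      exact ⟨fun i => a * c i, fun i => Ideal.mul_mem_right _ _ ha, by simp [← hc, Finset.smul_sum, mul_smul]⟩
    | add x _ y _ hx hy =>
      obtain ⟨c, hc, hc'⟩ := hx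
      obtain ⟨d, hd, hd'⟩ := hy
      exact ⟨c + d, fun i => add_mem (hc i) (hd i), by simp [add_smul, Finset.sum_add_distrib, hc', hd']⟩
  have hrel : ![v - s 0, u - s 1] ∈ GrothLib.Fitting.rel (R := B) fun i => D L B (![u, v] i) := by
    rw [GrothLib.Fitting.mem_rel, Fin.sum_univ_two]
    rw [Fin.sum_univ_two, Derivation.leibniz] at hs'
    simp only [Matrix.cons_val_zero, Matrix.cons_val_one] at hs' ⊢
    rw [sub_smul, sub_smul, ← sub_eq_zero.2 hs'.symm]
    abel
  have hF : ∀ i, ![v - s 0, u - s 1] i ∈ Fitt.ideal B Ω[B⁄L] 1 := by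
    intro i
    rw [GrothLib.Fitting.ideal_eq_minors _ (span_D_eq_top hres _ hu) 1]
    have := GrothLib.Fitting.det_mem_minors (L := GrothLib.Fitting.rel (R := B) fun i => D L B (![u, v] i))
      (m := 1) (fun _ => ![v - s 0, u - s 1]) (fun _ => i) (fun _ => hrel)
    simpa using this
  refine Submodule.le_of_le_smul_of_le_jacobson_bot (IsNoetherian.noetherian _)
    (maximalIdeal_le_jacobson _) ?_
  rw [smul_eq_mul, ← pow_two]
  conv_lhs => rw [hm]
  refine Ideal.span_le.2 ?_
  rintro z (rfl | rfl)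
  · simpa using add_mem (Ideal.mem_sup_left (T := maximalIdeal B ^ 2) (hF 1)) (Ideal.mem_sup_right (hs 1))
  · simpa using add_mem (Ideal.mem_sup_left (T := maximalIdeal B ^ 2) (hF 0)) (Ideal.mem_sup_right (hs 0))

include hres in
/-- Two generators with all quadratic relations degenerate force a small Fitting ideal. -/
theorem exists_quadratic [Module.Finite B Ω[B⁄L]] {u v : B} (hm : maximalIdeal B = Ideal.span {u, v})
    (hind : ∀ p q : B, p * u + q * v ∈ maximalIdeal B ^ 2 → p ∈ maximalIdeal B ∧ q ∈ maximalIdeal B)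
    (hF : Fitt.ideal B Ω[B⁄L] 1 = maximalIdeal B) :
    ∃ a b c : L, b ^ 2 - 4 * a * c ≠ 0 ∧
      algebraMap L B a * u ^ 2 + algebraMap L B b * (u * v) + algebraMap L B c * v ^ 2 ∈ maximalIdeal B ^ 3 := by
  classical
  by_contra hcon
  simp only [not_exists, not_and] at hcon
  set f := algebraMap L B
  set m := maximalIdeal B with hmdef
  have hu : u ∈ m := hm ▸ Ideal.subset_span (by simp)
  have hv : v ∈ m := hm ▸ Ideal.subset_span (by simp)
  let V : Set (L × L × L) := {q | f q.1 * u ^ 2 + f q.2.1 * (u * v) + f q.2.2 * v ^ 2 ∈ m ^ 3}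
  have hdisc : ∀ q ∈ V, q.2.1 ^ 2 - 4 * q.1 * q.2.2 = 0 := fun q hq => by
    by_contra h
    exact hcon q.1 q.2.1 q.2.2 h hq
  have hpolar : ∀ q ∈ V, ∀ r ∈ V, 2 * q.1 * (2 * r.2.2) + 2 * r.1 * (2 * q.2.2) = 2 * (q.2.1 * r.2.1) := by
    intro q hq r hr
    have hsum : (q.1 + r.1, q.2.1 + r.2.1, q.2.2 + r.2.2) ∈ V := by
      show f (q.1 + r.1) * u ^ 2 + f (q.2.1 + r.2.1) * (u * v) + f (q.2.2 + r.2.2) * v ^ 2 ∈ m ^ 3
      convert add_mem (show _ ∈ m ^ 3 from hq) (show _ ∈ m ^ 3 from hr) using 1
      simp only [map_add]; ring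
    linear_combination hdisc q hq + hdisc r hr - hdisc _ hsum
  let W : Set (L × L) := {w | ∃ q ∈ V, w = (2 * q.1, q.2.1) ∨ w = (q.2.1, 2 * q.2.2)}
  have hW : ∀ x ∈ W, ∀ y ∈ W, x.1 * y.2 = x.2 * y.1 := by
    rintro x ⟨q, hq, hx⟩ y ⟨r, hr, hy⟩
    have h1 := hdisc q hq
    have h2 := hdisc r hr
    have h3 := hpolar q hq r hr
    rcases hx with rfl | rfl <;> rcases hy with rfl | rfl <;> rw [← sub_eq_zero] <;>
      refine eq_zero_of_pow_eq_zero (n := 2) ?_
    · linear_combination (4 * r.1 ^ 2) * h1 + (4 * q.1 ^ 2) * h2 + (4 * q.1 * r.1) * h3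
    · linear_combination (r.2.1 ^ 2) * h1 + (4 * q.1 * q.2.2) * h2 + (4 * q.1 * r.2.2) * h3
    · linear_combination (r.2.1 ^ 2) * h1 + (4 * q.1 * q.2.2) * h2 + (4 * q.2.2 * r.1) * h3
    · linear_combination (4 * r.2.2 ^ 2) * h1 + (4 * q.2.2 ^ 2) * h2 + (4 * q.2.2 * r.2.2) * h3
  obtain ⟨w, hw0, hw⟩ : ∃ w : L × L, (w.1 ≠ 0 ∨ w.2 ≠ 0) ∧ ∀ x ∈ W, ∃ t : L, x.1 = t * w.1 ∧ x.2 = t * w.2 := by
    by_cases hne : ∃ w ∈ W, w.1 ≠ 0 ∨ w.2 ≠ 0
    · obtain ⟨w, hwW, hw0⟩ := hne
      refine ⟨w, hw0, fun x hx => ?_⟩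
      have h1 := hW x hx w hwW
      rcases hw0 with h | h
      · exact ⟨x.1 / w.1, by field_simp, by field_simp; linear_combination -h1⟩
      · exact ⟨x.2 / w.2, by field_simp; linear_combination h1, by field_simp⟩
    · simp only [not_exists, not_and, not_or, not_not] at hne
      exact ⟨(1, 0), Or.inl one_ne_zero, fun x hx => ⟨0, by simp [(hne x hx).1], by simp [(hne x hx).2]⟩⟩
  set ℓ := f w.1 * u + f w.2 * v
  set J : Ideal B := Ideal.span {ℓ} ⊔ m ^ 2
  have hJlin : ∀ x ∈ W, f x.1 * u + f x.2 * v ∈ J := by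
    intro x hx
    obtain ⟨t, h1, h2⟩ := hw x hx
    rw [h1, h2, show f (t * w.1) * u + f (t * w.2) * v = f t * ℓ by simp only [ℓ, map_mul]; ring]
    exact Ideal.mem_sup_left (Ideal.mul_mem_left _ _ (Ideal.mem_span_singleton_self _))
  -- the second order expansion
  let ε : MvPolynomial (Fin 2) L →ₐ[L] B := MvPolynomial.aeval ![u, v]
  have hexp : ∀ g : MvPolynomial (Fin 2) L, ∃ c α β a b d : L,
      ε g - (f c + f α * u + f β * v + f a * u ^ 2 + f b * (u * v) + f d * v ^ 2) ∈ m ^ 3 ∧
      ε (MvPolynomial.pderiv 0 g) - (f α + f (2 * a) * u + f b * v) ∈ m ^ 2 ∧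
      ε (MvPolynomial.pderiv 1 g) - (f β + f b * u + f (2 * d) * v) ∈ m ^ 2 := by
    intro g
    induction g using MvPolynomial.induction_on with
    | C c => exact ⟨c, 0, 0, 0, 0, 0, by simp [ε, f]⟩
    | add g h hg hh =>
      obtain ⟨c, α, β, a, b, d, h0, h1, h2⟩ := hg
      obtain ⟨c', α', β', a', b', d', h0', h1', h2'⟩ := hh
      refine ⟨c + c', α + α', β + β', a + a', b + b', d + d', ?_, ?_, ?_⟩
      · convert add_mem h0 h0' using 1; simp only [map_add]; ring
      · convert add_mem h1 h1' using 1; simp only [map_add, mul_add]; ring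
      · convert add_mem h2 h2' using 1; simp only [map_add, mul_add]; ring
    | mul_X g i hg =>
      obtain ⟨c, α, β, a, b, d, h0, h1, h2⟩ := hg
      have hu2 : u ^ 2 ∈ m ^ 2 := Ideal.pow_mem_pow hu 2
      have hv2 : v ^ 2 ∈ m ^ 2 := Ideal.pow_mem_pow hv 2
      have huv : u * v ∈ m ^ 2 := by rw [pow_two]; exact Ideal.mul_mem_mul hu hv
      have h3 : ∀ x ∈ m, ∀ y ∈ m ^ 2, x * y ∈ m ^ 3 := fun x hx y hy => by
        rw [pow_succ' _ 2]; exact Ideal.mul_mem_mul hx hy
      have h3' : ∀ x ∈ m, ε g * x - (f c * x + f α * (u * x) + f β * (v * x)) ∈ m ^ 3 := fun x hx => by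
        have : ε g * x - (f c * x + f α * (u * x) + f β * (v * x)) = x * (ε g - (f c + f α * u + f β * v +
          f a * u ^ 2 + f b * (u * v) + f d * v ^ 2)) + (f a * (x * u ^ 2) + f b * (x * (u * v)) + f d * (x * v ^ 2)) := by
          ring
        rw [this]
        exact add_mem (Ideal.mul_mem_left _ _ h0) (add_mem (add_mem (Ideal.mul_mem_left _ _ (h3 _ hx _ hu2))
          (Ideal.mul_mem_left _ _ (h3 _ hx _ huv))) (Ideal.mul_mem_left _ _ (h3 _ hx _ hv2)))
      have h2g : ε g - (f c + f α * u + f β * v) ∈ m ^ 2 := by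
        have := add_mem (Ideal.pow_le_pow_right (show 2 ≤ 3 by norm_num) h0)
          (add_mem (add_mem (Ideal.mul_mem_left _ (f a) hu2) (Ideal.mul_mem_left _ (f b) huv))
            (Ideal.mul_mem_left _ (f d) hv2))
        convert this using 1; ring
      have h2d : ∀ x ∈ m, ∀ (e : B) (l : L), e - (f l) ∈ m → e * x - f l * x ∈ m ^ 2 := fun x hx e l he => by
        rw [← sub_mul, pow_two]; exact Ideal.mul_mem_mul he hx
      have hd0 : ε (MvPolynomial.pderiv 0 g) - f α ∈ m := by
        have := add_mem (Ideal.pow_le_self two_ne_zero h1) (add_mem (Ideal.mul_mem_left _ (f (2 * a)) hu) (Ideal.mul_mem_left _ (f b) hv))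
        convert this using 1; ring
      have hd1 : ε (MvPolynomial.pderiv 1 g) - f β ∈ m := by
        have := add_mem (Ideal.pow_le_self two_ne_zero h2) (add_mem (Ideal.mul_mem_left _ (f b) hu) (Ideal.mul_mem_left _ (f (2 * d)) hv))
        convert this using 1; ring
      fin_cases i
      · refine ⟨0, c, 0, α, β, 0, ?_, ?_, ?_⟩
        · convert h3' u hu using 1
          simp [ε]; ring
        · convert add_mem h2g (h2d u hu _ α hd0) using 1
          simp [ε, MvPolynomial.pderiv_mul, f, map_ofNat]; ring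
        · convert h2d u hu _ β hd1 using 1
          simp [ε, MvPolynomial.pderiv_mul, f, mul_comm]
      · refine ⟨0, 0, c, 0, α, β, ?_, ?_, ?_⟩
        · convert h3' v hv using 1
          simp [ε]; ring
        · convert h2d v hv _ α hd0 using 1
          simp [ε, MvPolynomial.pderiv_mul, f, mul_comm]
        · convert add_mem h2g (h2d v hv _ β hd1) using 1
          simp [ε, MvPolynomial.pderiv_mul, f, map_ofNat]; ring
  have hm3J : m ^ 3 ≤ J := (Ideal.pow_le_pow_right (by norm_num)).trans le_sup_right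
  have hkill : ∀ g, ε g ∈ m ^ 3 → ∀ i, ε (MvPolynomial.pderiv i g) ∈ J := by
    intro g hg
    obtain ⟨c, α, β, a, b, d, h0, h1, h2⟩ := hexp g
    have hsum := sub_mem hg h0
    rw [sub_sub_cancel] at hsum
    have hc : c = 0 := by
      by_contra hc
      have h4 : f c ∈ m := by
        have := sub_mem (Ideal.pow_le_self three_ne_zero hsum) (add_mem (add_mem (add_mem (add_mem
          (Ideal.mul_mem_left _ (f α) hu) (Ideal.mul_mem_left _ (f β) hv))
          (Ideal.mul_mem_left _ (f a) (Ideal.pow_mem_of_mem _ hu 2 (by norm_num))))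
          (Ideal.mul_mem_left _ (f b) (Ideal.mul_mem_right v _ hu)))
          (Ideal.mul_mem_left _ (f d) (Ideal.pow_mem_of_mem _ hv 2 (by norm_num))))
        convert this using 1; ring
      exact h4 ((isUnit_iff_ne_zero.2 hc).map f)
    subst hc
    have hαβ : α = 0 ∧ β = 0 := by
      have h5 : f α * u + f β * v ∈ m ^ 2 := by
        have := sub_mem (Ideal.pow_le_pow_right (show 2 ≤ 3 by norm_num) hsum)
          (add_mem (add_mem (Ideal.mul_mem_left _ (f a) (Ideal.pow_mem_pow hu 2))
            (Ideal.mul_mem_left _ (f b) (by rw [pow_two]; exact Ideal.mul_mem_mul hu hv)))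
            (Ideal.mul_mem_left _ (f d) (Ideal.pow_mem_pow hv 2)))
        convert this using 1
        rw [map_zero]; ring
      obtain ⟨p, q⟩ := hind _ _ h5
      exact ⟨by_contra fun h => p ((isUnit_iff_ne_zero.2 h).map f),
        by_contra fun h => q ((isUnit_iff_ne_zero.2 h).map f)⟩
    obtain ⟨rfl, rfl⟩ := hαβ
    have hV : (a, b, d) ∈ V := by
      show f a * u ^ 2 + f b * (u * v) + f d * v ^ 2 ∈ m ^ 3
      simpa using hsum
    refine Fin.forall_fin_two.2 ⟨?_, ?_⟩
    · simpa using add_mem (Ideal.mem_sup_right (S := Ideal.span {ℓ}) h1) (hJlin (2 * a, b) ⟨_, hV, .inl rfl⟩)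
    · simpa using add_mem (Ideal.mem_sup_right (S := Ideal.span {ℓ}) h2) (hJlin (b, 2 * d) ⟨_, hV, .inr rfl⟩)
  have hsurj : ∀ x : B, ∃ g, ε g - x ∈ m ^ 3 := by
    have key : ∀ n, ∀ x : B, ∃ g, ε g - x ∈ m ^ n := by
      intro n
      induction n with
      | zero => exact fun x => ⟨0, by simp⟩
      | succ n ih =>
        intro x
        obtain ⟨t, ht⟩ := hres x
        rw [hm, Ideal.mem_span_pair] at ht
        obtain ⟨p, q, hpq⟩ := ht
        obtain ⟨gp, hgp⟩ := ih p
        obtain ⟨gq, hgq⟩ := ih q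
        refine ⟨MvPolynomial.C t - gp * MvPolynomial.X 0 - gq * MvPolynomial.X 1, ?_⟩
        have e : ε (MvPolynomial.C t - gp * MvPolynomial.X 0 - gq * MvPolynomial.X 1) - x =
            -((ε gp - p) * u + (ε gq - q) * v) := by
          simp [ε]
          linear_combination -hpq
        rw [e, pow_succ]
        exact neg_mem (add_mem (Ideal.mul_mem_mul hgp hu) (Ideal.mul_mem_mul hgq hv))
    exact key 3
  choose pre hpre using hsurj
  let δ : B → (Fin 2 → B ⧸ J) := fun x i => Ideal.Quotient.mk J (ε (MvPolynomial.pderiv i (pre x)))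
  have hδ : ∀ x g, ε g - x ∈ m ^ 3 → δ x = fun i => Ideal.Quotient.mk J (ε (MvPolynomial.pderiv i g)) := by
    intro x g hg
    funext i
    refine Ideal.Quotient.eq.2 ?_
    rw [← map_sub, ← map_sub]
    refine hkill _ ?_ i
    convert sub_mem (hpre x) hg using 1
    rw [map_sub]; ring
  let D₀ : B →ₗ[L] (Fin 2 → B ⧸ J) :=
    { toFun := δ
      map_add' := fun x y => by
        rw [hδ (x + y) (pre x + pre y) (by rw [map_add, add_sub_add_comm]; exact add_mem (hpre x) (hpre y))]
        funext i; simp [δ]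
      map_smul' := fun t x => by
        rw [RingHom.id_apply, hδ (t • x) (t • pre x) (by
          rw [map_smul, ← smul_sub, Algebra.smul_def]; exact Ideal.mul_mem_left _ _ (hpre x))]
        funext i
        simp only [δ, map_smul, Pi.smul_apply, Algebra.smul_def, Ideal.Quotient.algebraMap_eq, map_mul]
        simp [f] }
  let Dd : Derivation L B (Fin 2 → B ⧸ J) := Derivation.mk' D₀ fun x y => by
    show δ (x * y) = x • δ y + y • δ x
    rw [hδ (x * y) (pre x * pre y) (by
      rw [map_mul, show ε (pre x) * ε (pre y) - x * y = (ε (pre x) - x) * ε (pre y) + x * (ε (pre y) - y) by ring]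
      exact add_mem (Ideal.mul_mem_right _ _ (hpre x)) (Ideal.mul_mem_left _ _ (hpre y)))]
    funext i
    have hx : Ideal.Quotient.mk J (ε (pre x)) = Ideal.Quotient.mk J x := Ideal.Quotient.eq.2 (hm3J (hpre x))
    have hy : Ideal.Quotient.mk J (ε (pre y)) = Ideal.Quotient.mk J y := Ideal.Quotient.eq.2 (hm3J (hpre y))
    simp only [δ, MvPolynomial.pderiv_mul, map_add, map_mul, hx, hy, Pi.add_apply, Pi.smul_apply, Pi.mul_apply, Pi.algebraMap_apply, Algebra.smul_def,
      Ideal.Quotient.algebraMap_eq]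
    ring
  have hDu : Dd u = ![1, 0] := by
    show δ u = _
    rw [hδ u (MvPolynomial.X 0) (by simp [ε])]
    funext i; fin_cases i <;> simp [ε]
  have hDv : Dd v = ![0, 1] := by
    show δ v = _
    rw [hδ v (MvPolynomial.X 1) (by simp [ε])]
    funext i; fin_cases i <;> simp [ε]
  have hrange : Set.range ![u, v] = {u, v} := by simp [Matrix.range_cons, Set.pair_comm]
  have hle : m ≤ J := by
    rw [← hF, GrothLib.Fitting.ideal_eq_minors _ (span_D_eq_top hres ![u, v] (by rw [hrange]; exact hm)) 1,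
      GrothLib.Fitting.minors_le_iff]
    intro z e hz
    have h6 := congrArg Dd.liftKaehlerDifferential (GrothLib.Fitting.mem_rel.1 (hz 0))
    simp only [Fin.sum_univ_two, map_add, map_smul, Derivation.liftKaehlerDifferential_comp_D, map_zero,
      Matrix.cons_val_zero, Matrix.cons_val_one, hDu, hDv] at h6
    have h7 : ∀ i, z 0 i ∈ J := Fin.forall_fin_two.2
      ⟨Ideal.Quotient.eq_zero_iff_mem.1 (by simpa [Algebra.smul_def] using congrFun h6 0),
       Ideal.Quotient.eq_zero_iff_mem.1 (by simpa [Algebra.smul_def] using congrFun h6 1)⟩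
    simpa using h7 (e 0)
  have key : ∀ (x : B) (p q : L), x = f p * u + f q * v → ∃ t : L, p = t * w.1 ∧ q = t * w.2 := by
    intro x p q hx
    obtain ⟨y, hy, z, hz, hyz⟩ := Submodule.mem_sup.1 (hle (show x ∈ m by
      rw [hx]; exact add_mem (Ideal.mul_mem_left _ _ hu) (Ideal.mul_mem_left _ _ hv)))
    obtain ⟨y, rfl⟩ := Ideal.mem_span_singleton'.1 hy
    obtain ⟨t, ht⟩ := hres y
    have h8 : (f p - f (t * w.1)) * u + (f q - f (t * w.2)) * v ∈ m ^ 2 := by
      have e : (f p - f (t * w.1)) * u + (f q - f (t * w.2)) * v = z - (f t - y) * ℓ := by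
        simp only [ℓ, map_mul] at hyz ⊢
        linear_combination hyz.symm - hx
      rw [e]
      exact sub_mem hz (by
        rw [pow_two]
        exact Ideal.mul_mem_mul ht (add_mem (Ideal.mul_mem_left _ _ hu) (Ideal.mul_mem_left _ _ hv)))
    obtain ⟨h9, h10⟩ := hind _ _ h8
    rw [← map_sub] at h9 h10
    refine ⟨t, by_contra fun h => h9 ((isUnit_iff_ne_zero.2 (sub_ne_zero.2 h)).map f),
      by_contra fun h => h10 ((isUnit_iff_ne_zero.2 (sub_ne_zero.2 h)).map f)⟩
  obtain ⟨t, ht1, ht2⟩ := key u 1 0 (by simp [f])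
  obtain ⟨s, hs1, hs2⟩ := key v 0 1 (by simp [f])
  have : (1 : L) = 0 := by
    calc (1 : L) = (t * w.1) * (s * w.2) := by rw [← ht1, ← hs2, one_mul]
      _ = (t * w.2) * (s * w.1) := by ring
      _ = 0 := by rw [← ht2, zero_mul]
  exact one_ne_zero this

include hres in
/-- A one-dimensional local ring with a regular element whose first Fitting ideal of differentials is the
maximal ideal is a node. -/
theorem nodeForm_of_fitting [IsAlgClosed L] [Module.Finite B Ω[B⁄L]] (hdim : ringKrullDim B = 1)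
    (hreg : ∃ z ∈ maximalIdeal B, IsSMulRegular B z) (hF : Fitt.ideal B Ω[B⁄L] 1 = maximalIdeal B) :
    GrothLib.NodeEt.NodeForm B := by
  classical
  obtain ⟨n, g, hg, hgind⟩ := exists_minimal (B := B)
  obtain rfl : n = 2 := by
    rcases Nat.lt_or_ge n 2 with h | h
    · exfalso
      have h1 : Fitt.ideal B Ω[B⁄L] 1 = ⊤ :=
        GrothLib.Fitting.ideal_eq_top_of_le _ (span_D_eq_top hres g hg) (by omega)
      exact (maximalIdeal.isMaximal B).ne_top (hF ▸ h1)
    · by_contra hne
      exact sq_lt_maximalIdeal hdim (hF.ge.trans ((fitting_le_pow hres g hg hgind).trans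
        (Ideal.pow_le_pow_right (by omega))))
  set u := g 0
  set v := g 1
  have hm : maximalIdeal B = Ideal.span {u, v} := by
    rw [hg]; congr 1; ext x; simp [Fin.exists_fin_two, u, v, eq_comm]
  have hind : ∀ p q : B, p * u + q * v ∈ maximalIdeal B ^ 2 → p ∈ maximalIdeal B ∧ q ∈ maximalIdeal B :=
    fun p q h => ⟨hgind ![p, q] (by simpa [Fin.sum_univ_two] using h) 0,
      hgind ![p, q] (by simpa [Fin.sum_univ_two] using h) 1⟩
  obtain ⟨a, b, c, hd, hq⟩ := exists_quadratic hres hm hind hF
  obtain ⟨x, y, hxy, hxy3⟩ := GrothLib.NodeEt.exists_split (K := L) hm hd hq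
  rw [← GrothLib.NodeEt.nodeForm_completion_iff B]
  set S := AdicCompletion (maximalIdeal B) B
  have hmS : maximalIdeal S = (maximalIdeal B).map (algebraMap B S) := AdicCompletion.maximalIdeal_eq_map
  haveI : IsAdicComplete (maximalIdeal S) S := by
    rw [hmS]
    exact AdicCompletion.isAdicComplete_self _ (maximalIdeal B).fg_of_isNoetherianRing
  obtain ⟨u', v', hm', hrel⟩ := GrothLib.NodeEt.exists_exact_relation (S := S)
    (u := algebraMap B S x) (v := algebraMap B S y) (a := 0) (b := 1) (c := 0)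
    (by rw [hmS]; exact (congrArg (Ideal.map (algebraMap B S)) hxy).trans (by rw [Ideal.map_span, Set.image_pair])) (by simp)
    (by
      simp only [zero_mul, one_mul, zero_add, add_zero]
      rw [← map_mul, hmS, ← Ideal.map_pow]
      exact Ideal.mem_map_of_mem _ hxy3)
  simp only [zero_mul, one_mul, zero_add, add_zero] at hrel
  let σ : L →+* S := (algebraMap B S).comp (algebraMap L B)
  have hσ : Function.Surjective ((residue S).comp σ) := fun z => by
    obtain ⟨z, rfl⟩ := (AdicCompletion.residueField_map_bijective B).2 z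
    obtain ⟨b', rfl⟩ := residue_surjective z
    obtain ⟨t, ht⟩ := hres b'
    refine ⟨t, ?_⟩
    rw [ResidueField.map_residue]
    refine Ideal.Quotient.eq.2 ?_
    rw [RingHom.comp_apply, ← map_sub, hmS]
    exact Ideal.mem_map_of_mem _ ht
  letI : Algebra L S := σ.toAlgebra
  have hmem : ∀ i, ![u', v'] i ∈ maximalIdeal S := by
    rw [Fin.forall_fin_two]; rw [hm']
    exact ⟨Ideal.subset_span (by simp), Ideal.subset_span (by simp)⟩
  obtain ⟨ψ, hψ⟩ := GrothLib.RegLoc.PS.exists_algHom (A := L) (maximalIdeal S) ![u', v'] hmem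
  have hψs : Function.Surjective ψ := GrothLib.RegLoc.PS.surjective hσ ψ (by
    rw [hm']
    congr 1
    ext z
    simp [Fin.exists_fin_two, hψ, eq_comm, or_comm])
  -- no branch is killed
  have hgen2 : ∀ z : S, maximalIdeal S = Ideal.span {z} → False := fun z hz => by
    have h1 : (maximalIdeal S).spanFinrank ≤ 1 := by
      rw [hz]
      exact (Submodule.spanFinrank_span_le_ncard_of_finite (Set.finite_singleton z)).trans (by simp)
    rw [AdicCompletion.spanFinrank_maximalIdeal_eq] at h1
    refine sq_lt_maximalIdeal hdim ?_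
    have h2 : Fitt.ideal B Ω[B⁄L] 1 = ⊤ := (fitting_eq_top_iff hres hdim).2
      (IsRegularLocalRing.of_spanFinrank_maximalIdeal_le B (by rw [hdim]; exact_mod_cast h1))
    exact absurd (hF ▸ h2) (maximalIdeal.isMaximal B).ne_top
  obtain ⟨z0, hz0, hz0r⟩ := hreg
  have hz0S : IsSMulRegular S (algebraMap B S z0) := hz0r.of_flat
  have hnilp : ∀ p q : S, maximalIdeal S = Ideal.span {p, q} → p * q = 0 → ∀ n : ℕ, p ^ n ≠ 0 := by
    intro p q hpq hpq0 n hn
    have hex : ∃ n, p ^ n = 0 := ⟨n, hn⟩
    obtain ⟨N, hN⟩ : ∃ N, Nat.find hex = N + 1 := Nat.exists_eq_succ_of_ne_zero fun h => by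
      have := Nat.find_spec hex
      rw [h, pow_zero] at this
      exact one_ne_zero this
    rcases Nat.eq_zero_or_pos N with rfl | hpos
    · have := Nat.find_spec hex
      rw [hN, zero_add, pow_one] at this
      refine hgen2 q ?_
      rw [hpq, this, Ideal.span, Submodule.span_insert_zero]
    have hz : algebraMap B S z0 * p ^ N = 0 := by
      have hz0m : algebraMap B S z0 ∈ maximalIdeal S := hmS ▸ Ideal.mem_map_of_mem _ hz0
      rw [hpq, Ideal.mem_span_pair] at hz0m
      obtain ⟨s, t, hst⟩ := hz0m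
      have hp : p ^ (N + 1) = 0 := hN ▸ Nat.find_spec hex
      obtain ⟨N, rfl⟩ := Nat.exists_eq_succ_of_ne_zero hpos.ne'
      rw [← hst]
      simp only [Nat.succ_eq_add_one] at hp ⊢
      linear_combination s * hp + (t * p ^ N) * hpq0
    have h3 : p ^ N = 0 := hz0S (a₁ := p ^ N) (a₂ := 0) (by simpa using hz)
    exact Nat.find_min hex (by omega : N < Nat.find hex) h3
  have hX : ∀ s, ψ (MvPowerSeries.X s) = ![u', v'] s := hψ
  have hker : RingHom.ker ψ.toRingHom =
      Ideal.span {(MvPowerSeries.X 0 * MvPowerSeries.X 1 : MvPowerSeries (Fin 2) L)} := by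
    refine le_antisymm (fun f hf => ?_) (Ideal.span_le.2 ?_)
    · refine GrothLib.NodeFrob.mem_span_of_axis fun s => ?_
      by_contra hne
      obtain ⟨o, hso⟩ : ∃ o : Fin 2, s ≠ o := ⟨s + 1, by fin_cases s <;> decide⟩
      set φ := GrothLib.NodeFrob.axis s f with hφ
      obtain ⟨n, hn⟩ : ∃ n : ℕ, φ.order = n := ENat.ne_top_iff_exists.1 (by
        rw [ne_eq, PowerSeries.order_eq_top]; exact hne) |>.imp fun _ h => h.symm
      obtain ⟨ω, hω⟩ : (PowerSeries.X : PowerSeries L) ^ n ∣ φ :=
        PowerSeries.X_pow_dvd_iff.2 fun i hi => PowerSeries.coeff_of_lt_order i (by rw [hn]; exact_mod_cast hi)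
      have hωu : IsUnit ω := by
        rw [PowerSeries.isUnit_iff_constantCoeff, isUnit_iff_ne_zero]
        intro h0
        have h1 := (PowerSeries.order_eq_nat.1 hn).1
        rw [hω, PowerSeries.coeff_X_pow_mul', if_pos le_rfl, Nat.sub_self,
          PowerSeries.coeff_zero_eq_constantCoeff_apply, h0] at h1
        exact h1 rfl
      obtain ⟨W', hW'⟩ := GrothLib.NodeFrob.exists_axis (fun _ : Fin 2 => ω) rfl
      have hW'u : IsUnit W' := by
        rw [MvPowerSeries.isUnit_iff_constantCoeff, ← MvPowerSeries.coeff_zero_eq_constantCoeff_apply,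
          ← GrothLib.NodeFrob.constantCoeff_axis s, hW', PowerSeries.coeff_zero_eq_constantCoeff_apply,
          ← PowerSeries.isUnit_iff_constantCoeff]
        exact hωu
      have hXs : GrothLib.NodeFrob.axis s (MvPowerSeries.X s : MvPowerSeries (Fin 2) L) = PowerSeries.X := by
        refine PowerSeries.ext fun i => ?_
        rw [GrothLib.NodeFrob.coeff_axis, MvPowerSeries.coeff_X, PowerSeries.coeff_X]
        refine if_congr ⟨fun h => ?_, fun h => h ▸ rfl⟩ rfl rfl
        rcases Finsupp.single_eq_single_iff _ _ _ _ |>.1 h with ⟨-, h2⟩ | ⟨-, h2⟩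
        · exact h2
        · exact absurd h2 one_ne_zero
      have hmem2 : MvPowerSeries.X s * f - MvPowerSeries.X s ^ (n + 1) * W' ∈
          Ideal.span {(MvPowerSeries.X 0 * MvPowerSeries.X 1 : MvPowerSeries (Fin 2) L)} := by
        refine GrothLib.NodeFrob.mem_span_of_axis fun r => ?_
        rcases eq_or_ne r s with rfl | hr
        · rw [map_sub, map_mul, map_mul, map_pow, hXs, hW', ← hφ, hω]; ring
        · rw [map_sub, map_mul, map_mul, map_pow, GrothLib.NodeFrob.axis_X hr, zero_pow n.succ_ne_zero,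
            zero_mul, zero_mul, sub_zero]
      obtain ⟨r, hr⟩ := Ideal.mem_span_singleton'.1 hmem2
      have h4 := congrArg ψ hr
      rw [map_mul, map_mul, map_sub, map_mul, map_mul, map_pow, show ψ f = 0 from hf, hX 0, hX 1,
        show ![u', v'] 0 * ![u', v'] 1 = 0 from hrel, mul_zero, mul_zero, zero_sub, eq_comm, neg_eq_zero,
        (hW'u.map ψ).mul_left_eq_zero, hX] at h4
      revert h4
      fin_cases s
      · exact hnilp u' v' hm' hrel (n + 1)
      · exact hnilp v' u' (by rw [hm', Set.pair_comm]) (by rw [mul_comm]; exact hrel) (n + 1)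
    · rintro _ rfl
      show ψ _ = 0
      rw [map_mul, hX, hX]
      exact hrel
  exact (GrothLib.NodeEt.nodeForm_standard (0 : L) 1 0 (by simp)).of_ringEquiv
    ((Ideal.quotEquivOfEq ((GrothLib.NodeEt.quadSeries_split L).trans hker.symm)).trans
      (RingHom.quotientKerEquivOfSurjective hψs))

end GrothLib.NodeOpen11
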