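import Groth.Agent.Lib.NodeOpen11.BaseChange
import Groth.Agent.Lib.CIField.Scheme
import Groth.Agent.Lib.CIPres.Avramov
import Groth.Agent.Lib.CIPres.Relative
import Groth.Agent.Lib.RegLoc.PowerSeries
import Groth.Agent.Lib.CMFree.Regular
import Groth.Agent.Lib.CMFree.FiniteFlat
import Groth.Agent.Lib.SyntLoc.Field
import Groth.Agent.Lib.LCI6.Koszul
import Groth.Agent.Lib.LCI6.LocusBaseChange
import Groth.Prelude.Def_Pi1

/-!
# Nodal curves over a field are local complete intersections
-/

set_option autoImplicit false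
set_option linter.all false
set_option backward.isDefEq.respectTransparency false

universe u

open CategoryTheory Limits AlgebraicGeometry IsLocalRing RingTheory.Sequence TensorProduct

noncomputable section

namespace GrothLib.NodeOpen11

/-- An ordinary double point is a complete intersection. -/
theorem isCI_of_isOrdDoublePt {L : Type u} [Field L] {A : Type u} [CommRing A] [Algebra L A] [IsLocalRing A]
    (h : Curv2.IsOrdDoublePt L A) : Pi1.IsCompleteIntersection A := by
  obtain ⟨e, -⟩ := h
  let P := MvPowerSeries (Fin 2) L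
  let w : P := MvPowerSeries.X 0 * MvPowerSeries.X 1
  haveI : IsRegularLocalRing P := GrothLib.RegLoc.PS.isRegularLocalRing L
  haveI : IsDomain P := GrothLib.CMFree.isDomain_of_isRegularLocalRing P
  have hmem : ∀ r ∈ [w], r ∈ maximalIdeal P := fun r hr => by
    rw [List.mem_singleton] at hr
    subst hr
    exact Ideal.mul_mem_left _ _ (GrothLib.RegLoc.PS.X_mem L 1)
  have hw0 : w ≠ 0 := by
    refine mul_ne_zero (fun h0 => ?_) (fun h0 => ?_)
    · have := congrArg (MvPowerSeries.coeff (R := L) (Finsupp.single 0 1)) h0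
      simp [MvPowerSeries.coeff_X] at this
    · have := congrArg (MvPowerSeries.coeff (R := L) (Finsupp.single 1 1)) h0
      simp [MvPowerSeries.coeff_X] at this
  refine ⟨P, inferInstance, inferInstance, [w], hmem, IsRegular.of_isWeaklyRegular_of_mem_maximalIdeal P hmem ?_,
    ⟨e.trans (Ideal.quotEquivOfEq (congrArg Ideal.span ?_))⟩⟩
  · rw [isWeaklyRegular_cons_iff]
    exact ⟨IsSMulRegular.of_ne_zero hw0, IsWeaklyRegular.nil _ _⟩
  · ext r
    simp [w]

/-- A node of an algebra over an algebraically closed field is a complete intersection. -/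
theorem isCIOver_of_nodeForm {L : Type u} [Field L] [IsAlgClosed L] {A : Type u} [CommRing A] [Algebra L A]
    [Algebra.FiniteType L A] (M : Ideal A) [M.IsMaximal] (h : GrothLib.NodeEt.NodeForm (Localization.AtPrime M)) :
    Synt.IsCIOver L (Localization.AtPrime M) := by
  haveI : IsNoetherianRing A := Algebra.FiniteType.isNoetherianRing L A
  haveI : IsNoetherianRing (Localization.AtPrime M) := IsLocalization.isNoetherianRing M.primeCompl _ inferInstance
  haveI : Algebra.EssFiniteType L (Localization.AtPrime M) := Algebra.EssFiniteType.comp L A (Localization.AtPrime M)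
  have hci := isCI_of_isOrdDoublePt ((GrothLib.NodeEt.isOrdDoublePt_iff_nodeForm (exists_sub_mem (L := L) M)).2 h)
  obtain ⟨n, α, hα⟩ := GrothLib.CIField.exists_isGen (k := L) (S := Localization.AtPrime M)
  let p := (maximalIdeal (Localization.AtPrime M)).comap α.toRingHom
  haveI : p.IsPrime := Ideal.IsPrime.comap _
  haveI : IsRegularRing (MvPolynomial (Fin n) L) := MvPolynomial.isRegularRing_of_isRegularRing L
  haveI : IsRegularLocalRing (Localization.AtPrime p) := IsRegularRing.isRegularLocalRing_localization p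
  haveI : Algebra.EssFiniteType L (Localization.AtPrime p) :=
    Algebra.EssFiniteType.comp L (MvPolynomial (Fin n) L) (Localization.AtPrime p)
  have hs := GrothLib.CIField.locHom_surjective hα p rfl
  rw [GrothLib.CIField.isCIOver_iff_regGen (GrothLib.CIField.locHom α p rfl) hs]
  obtain ⟨rs, hrs, hreg⟩ := (GrothLib.CIPres.isCI_iff_ker (GrothLib.CIField.locHom α p rfl).toRingHom hs).1 hci
  exact GrothLib.CIField.RegGen.of_isRegular hreg hrs

/-- Over an algebraically closed field smooth points and nodes are complete intersection points. -/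
theorem inLocus_of_good_algClosed {L : Type u} [Field L] [IsAlgClosed L] {Z : Scheme.{u}}
    (sZ : Z ⟶ Spec (CommRingCat.of L)) [LocallyOfFiniteType sZ] (z : Z) (h : Good sZ z) :
    GrothLib.LCI6.InLocus sZ z := by
  rcases h with ⟨U, hzU, hU⟩ | hn
  · exact (GrothLib.LCI6.inLocus_openImmersion_comp_iff U.ι sZ (z := ⟨z, hzU⟩)).1
      (GrothLib.LCI6.inLocus_of_smooth (U.ι ≫ sZ) _)
  obtain ⟨hz, -, hform⟩ := (GrothLib.NodeEt.isNode_iff_nodeForm sZ z).1 hn
  obtain ⟨U, hU, hzU, -⟩ := GrothLib.LCI6.exists_affine_le (x := z) (O := ⊤) trivial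
  refine (GrothLib.CIField.stalk_ci_iff_inLocus L sZ z).1 ((GrothLib.CIField.stalk_ci_iff L sZ hU z hzU).2 ?_)
  letI := (GrothLib.CIField.kMap L sZ U).hom.toAlgebra
  haveI : Algebra.FiniteType L Γ(Z, U) := by
    show (GrothLib.CIField.kMap L sZ U).hom.FiniteType
    rw [GrothLib.CIField.kMap, CommRingCat.hom_comp]
    exact RingHom.FiniteType.comp
      (HasRingHomProperty.appLE @LocallyOfFiniteType sZ inferInstance ⟨⊤, isAffineOpen_top _⟩ ⟨U, hU⟩ le_top)
      (RingHom.FiniteType.of_surjective _
        (ConcreteCategory.bijective_of_isIso (Scheme.ΓSpecIso (CommRingCat.of L)).inv).2)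
  haveI := hU.primeIdealOf_isMaximal_of_isClosed ⟨z, hzU⟩ hz
  letI := Z.presheaf.algebra_section_stalk ⟨z, hzU⟩
  haveI := hU.isLocalization_stalk ⟨z, hzU⟩
  exact isCIOver_of_nodeForm _ (hform.of_ringEquiv
    (IsLocalization.algEquiv (hU.primeIdealOf ⟨z, hzU⟩).asIdeal.primeCompl (Z.presheaf.stalk z)
      (Localization.AtPrime (hU.primeIdealOf ⟨z, hzU⟩).asIdeal)).toRingEquiv)

variable {k : Type u} [Field k] {X : Scheme.{u}} (sX : X ⟶ Spec (CommRingCat.of k)) [LocallyOfFiniteType sX]

/-- Smooth points and nodes of curves are complete intersection points. -/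
theorem inLocus_of_good (hequi : ∀ W ∈ irreducibleComponents (X : Type u), topologicalKrullDim W = 1) (x : X)
    (h : Good sX x) : GrothLib.LCI6.InLocus sX x := by
  let g := Spec.map (CommRingCat.ofHom (algebraMap k (AlgebraicClosure k)))
  let sZ := pullback.snd sX g
  have sq : IsPullback (pullback.fst sX g) sZ sX g := IsPullback.of_hasPullback sX g
  haveI : LocallyOfFiniteType sZ := MorphismProperty.pullback_snd _ _ inferInstance
  haveI : Surjective g := GrothLib.CurveLocus.surjective_to_spec_field g
  haveI : Surjective (pullback.fst sX g) := MorphismProperty.pullback_fst _ _ inferInstance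
  obtain ⟨z, rfl⟩ := (pullback.fst sX g).surjective x
  have hz := inLocus_of_good_algClosed sZ z ((good_fieldExt sq hequi z).2 h)
  haveI : IsLocallyNoetherian X := LocallyOfFiniteType.isLocallyNoetherian sX
  haveI : Flat (sX ≫ 𝟙 _) := GrothLib.CurveLocus.flat_to_spec_field _
  haveI : LocallyOfFinitePresentation (sX ≫ 𝟙 (Spec (CommRingCat.of k))) := by
    rw [Category.comp_id]
    exact GrothLib.LocProp.locallyOfFinitePresentation_of_isLocallyNoetherian sX
  exact (GrothLib.LCI6.inLocus_baseChange sX (𝟙 _) g g (𝟙 _) (IsPullback.of_vert_isIso ⟨by simp⟩) _ sZ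
    (by rw [Category.comp_id, Category.comp_id]; exact sq) sq.w z).1 hz

/-- Complete intersection points over a field are Cohen–Macaulay. -/
theorem isCMAt_of_inLocus (x : X) (h : GrothLib.LCI6.InLocus sX x) : MoreMor.IsCMAt sX x := by
  rw [isCMAt_field_iff]
  letI := ((Scheme.ΓSpecIso (CommRingCat.of k)).inv ≫ sX.appLE ⊤ ⊤ le_top ≫
    X.presheaf.germ ⊤ x trivial).hom.toAlgebra
  obtain ⟨R, _, _, _, -, rs, hm, hreg, ⟨e⟩⟩ := (GrothLib.CIField.stalk_ci_iff_inLocus k sX x).2 h
  haveI : LocCoh.IsCohenMacaulayLocalRing R := by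
    obtain ⟨l, h1, h2, h3⟩ := GrothLib.CMFree.exists_weaklyRegular_of_isRegularLocalRing R
    exact GrothLib.CMFree.isCohenMacaulayLocalRing_of_weaklyRegular R l h1 h2 h3.ge
  haveI := GrothLib.SyntLoc.isCohenMacaulayLocalRing_quotient_ofList rs hm hreg.toIsWeaklyRegular
  exact GrothLib.HB26.isCohenMacaulayLocalRing_of_ringEquiv e.symm.toRingEquiv

/-- The fibres of a curve over a field, and their good points. -/
theorem goodSet_field (hequi : ∀ W ∈ irreducibleComponents (X : Type u), topologicalKrullDim W = 1) :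
    (∀ s, ∀ W ∈ irreducibleComponents (↥(sX.fiber s) : Type u), topologicalKrullDim W = 1) ∧
      ∀ x, x ∈ goodSet sX ↔ Good sX x := by
  haveI : IsLocallyNoetherian X := LocallyOfFiniteType.isLocallyNoetherian sX
  haveI : LocallyOfFinitePresentation sX := GrothLib.LocProp.locallyOfFinitePresentation_of_isLocallyNoetherian sX
  haveI : Flat sX := GrothLib.CurveLocus.flat_to_spec_field sX
  refine ⟨fun s => GrothLib.NodeEt.components_dim_of_isPullback sX
    (IsPullback.of_hasPullback sX ((Spec (CommRingCat.of k)).fromSpecResidueField s)) 1 hequi, fun x => ?_⟩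
  let K : Type u := ((Spec (CommRingCat.of k)).residueField (sX x) : CommRingCat)
  letI alg : Algebra k K := (Spec.preimage ((Spec (CommRingCat.of k)).fromSpecResidueField (sX x))).hom.toAlgebra
  have halg : Spec.map (CommRingCat.ofHom (algebraMap k K)) =
      (Spec (CommRingCat.of k)).fromSpecResidueField (sX x) := by
    show Spec.map (CommRingCat.ofHom (Spec.preimage _).hom) = _
    rw [CommRingCat.ofHom_hom, Spec.map_preimage]
  have sq : IsPullback (sX.fiberι (sX x)) (sX.fiberToSpecResidueField (sX x)) sX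
      (Spec.map (CommRingCat.ofHom (algebraMap k K))) := by
    rw [halg]
    exact IsPullback.of_hasPullback sX _
  rw [mem_goodSet_iff]
  exact (good_fieldExt (k := k) (L := K) sq hequi (sX.asFiber x)).trans (by rw [sX.fiberι_asFiber])

/-- A curve is at worst nodal iff all its points are good. -/
theorem atWorstNodal_iff_forall_good (hequi : ∀ W ∈ irreducibleComponents (X : Type u), topologicalKrullDim W = 1) :
    @Curv2.AtWorstNodal k _ X ⟨sX⟩ ↔ ∀ x, x ∈ goodSet sX := by
  haveI : IsLocallyNoetherian X := LocallyOfFiniteType.isLocallyNoetherian sX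
  haveI : LocallyOfFinitePresentation sX := GrothLib.LocProp.locallyOfFinitePresentation_of_isLocallyNoetherian sX
  haveI : Flat sX := GrothLib.CurveLocus.flat_to_spec_field sX
  haveI : JacobsonSpace X := LocallyOfFiniteType.jacobsonSpace sX
  obtain ⟨hfib, hg⟩ := goodSet_field sX hequi
  refine ⟨fun h x => ?_, fun h x _ => (hg x).1 (h x)⟩
  by_contra hx
  obtain ⟨y, hy, hy'⟩ := nonempty_inter_closedPoints (show ((goodSet sX)ᶜ).Nonempty from ⟨x, hx⟩)
    (isOpen_goodSet sX hfib).isClosed_compl.isLocallyClosed
  exact hy ((hg y).2 (h y hy'))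

end GrothLib.NodeOpen11
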