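import Groth.Agent.Lib.NodeOpen11.Open

/-!
# Consequences of the openness of the locus of smooth points and nodes
-/

set_option autoImplicit false
set_option linter.all false
set_option backward.isDefEq.respectTransparency false

universe u

open CategoryTheory Limits AlgebraicGeometry

noncomputable section

namespace GrothLib.NodeOpen11

variable {C S : Scheme.{u}} (π : C ⟶ S) [Flat π] [LocallyOfFinitePresentation π]

theorem mem_goodSet_iff' (s : S) (z : π.fiber s) :
    π.fiberι s z ∈ goodSet π ↔ Good (π.fiberToSpecResidueField s) z := by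
  obtain ⟨x, hx⟩ : ∃ x, π.fiberι s z = x := ⟨_, rfl⟩
  obtain rfl : π x = s := hx ▸ GrothLib.DimCut.apply_fiberι π s z
  rw [GrothLib.DimCut.eq_asFiber π x z hx, mem_goodSet_iff]
  rw [π.fiberι_asFiber]

/-- A fibre is at worst nodal iff it consists of smooth points and nodes. -/
theorem atWorstNodal_iff_subset
    (hfib : ∀ s : S, ∀ Z ∈ irreducibleComponents (↥(π.fiber s) : Type u), topologicalKrullDim Z = 1) (s : S) :
    @Curv2.AtWorstNodal (S.residueField s) _ (π.fiber s) ⟨π.fiberToSpecResidueField s⟩ ↔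
      ∀ x, π x = s → x ∈ goodSet π := by
  haveI := GrothLib.NodeEt.locallyOfFiniteType_fiberTo π s
  haveI : JacobsonSpace (π.fiber s) := LocallyOfFiniteType.jacobsonSpace (π.fiberToSpecResidueField s)
  constructor
  · intro h x hx
    obtain ⟨z, rfl⟩ : x ∈ Set.range (π.fiberι s) := (π.range_fiberι s).ge hx
    by_contra hz
    have hc : IsClosed ((π.fiberι s) ⁻¹' (goodSet π)ᶜ) :=
      (isOpen_goodSet π hfib).isClosed_compl.preimage (π.fiberι s).continuous
    obtain ⟨y, hy, hy'⟩ := nonempty_inter_closedPoints (show ((π.fiberι s) ⁻¹' (goodSet π)ᶜ).Nonempty from ⟨z, hz⟩)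
      hc.isLocallyClosed
    exact hy ((mem_goodSet_iff' π s y).2 (h y hy'))
  · intro h z _
    exact (mem_goodSet_iff' π s z).1 (h _ (GrothLib.DimCut.apply_fiberι π s z))

/-- At worst nodal fibres form an open set. -/
theorem isOpen_atWorstNodal [IsProper π]
    (hfib : ∀ s : S, ∀ Z ∈ irreducibleComponents (↥(π.fiber s) : Type u), topologicalKrullDim Z = 1) :
    IsOpen {s : S | @Curv2.AtWorstNodal (S.residueField s) _ (π.fiber s) ⟨π.fiberToSpecResidueField s⟩} := by
  have e : {s : S | @Curv2.AtWorstNodal (S.residueField s) _ (π.fiber s) ⟨π.fiberToSpecResidueField s⟩} =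
      (π '' (goodSet π)ᶜ)ᶜ := by
    ext s
    rw [Set.mem_setOf_eq, atWorstNodal_iff_subset π hfib s]
    constructor
    · rintro h ⟨x, hx, rfl⟩
      exact hx (h x rfl)
    · intro h x hx
      by_contra hx'
      exact h ⟨x, hx', hx⟩
  rw [e]
  exact (π.isClosedMap _ (isOpen_goodSet π hfib).isClosed_compl).isOpen_compl

end GrothLib.NodeOpen11
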