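import Groth.Agent.Lib.NodeOpen11.Field
import Groth.Agent.Lib.NodeEt.Family
import Groth.Agent.Lib.EtLocal.PointFibre
import Groth.Agent.Lib.CurveStk.CM

/-!
# Openness of the locus of smooth points and nodes
-/

set_option autoImplicit false
set_option linter.all false
set_option backward.isDefEq.respectTransparency false

universe u

open CategoryTheory Limits AlgebraicGeometry TensorProduct

noncomputable section

namespace GrothLib.NodeOpen11

attribute [local instance] Algebra.TensorProduct.rightAlgebra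

/-- Smooth near the point, or a node of the fibre. -/
def goodSet {C S : Scheme.{u}} (π : C ⟶ S) : Set C :=
  {p | (∃ U : C.Opens, p ∈ U ∧ Smooth (U.ι ≫ π)) ∨
    @Curv2.IsNode (S.residueField (π.base p)) _ (π.fiber (π.base p)) ⟨π.fiberToSpecResidueField (π.base p)⟩ (π.asFiber p)}

theorem mem_goodSet_iff {C S : Scheme.{u}} (π : C ⟶ S) [Flat π] [LocallyOfFinitePresentation π] (p : C) :
    p ∈ goodSet π ↔ Good (π.fiberToSpecResidueField (π p)) (π.asFiber p) := by
  refine or_congr ⟨fun h => ?_, fun h => ?_⟩ Iff.rfl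
  · exact GrothLib.EtLocal.nhd_fibre (W := @Smooth) (IsPullback.of_hasPullback π (S.fromSpecResidueField (π p)))
      (π.asFiber p) (π.fiberι_asFiber p) h
  · exact GrothLib.EtLocal.smooth_nhd_of_flat_of_fibre_nhd π p (Flat.stalkMap π p) (π.asFiber p)
      (π.fiberι_asFiber p) h

/-- The criterion in an affine chart. -/
theorem mem_goodSet_iff_chart {C S : Scheme.{u}} (π : C ⟶ S) [Flat π] [LocallyOfFinitePresentation π]
    (hfib : ∀ s : S, ∀ Z ∈ irreducibleComponents (↥(π.fiber s) : Type u), topologicalKrullDim Z = 1)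
    {R A : Type u} [CommRing R] [CommRing A] [Algebra R A] [Algebra.FiniteType R A]
    (j : Spec (CommRingCat.of A) ⟶ C) [IsOpenImmersion j] (i : Spec (CommRingCat.of R) ⟶ S) [IsOpenImmersion i]
    (comm : j ≫ π = Spec.map (CommRingCat.ofHom (algebraMap R A)) ≫ i) (q : PrimeSpectrum A) :
    j q ∈ goodSet π ↔
      MoreMor.IsCMAt (Spec.map (CommRingCat.ofHom (algebraMap R A))) q ∧ q ∉ ramSet R A := by
  rw [mem_goodSet_iff]
  set π' := Spec.map (CommRingCat.ofHom (algebraMap R A))
  suffices H : ∀ (s : S), s = (j ≫ π) q → ∀ z : π.fiber s, π.fiberι s z = j q →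
      (Good (π.fiberToSpecResidueField s) z ↔ MoreMor.IsCMAt π' q ∧ q ∉ ramSet R A) from
    H _ rfl _ (π.fiberι_asFiber _)
  intro s hs z hz
  haveI : Flat π' := by
    haveI : Flat (π' ≫ i) := by rw [← comm]; infer_instance
    exact MorphismProperty.of_postcomp (W := @Flat) (W' := @IsOpenImmersion) π' i ‹_› ‹_›
  have hrange : Set.range (S.fromSpecResidueField s) ⊆ Set.range i := by
    rw [Scheme.range_fromSpecResidueField, Set.singleton_subset_iff, hs, comm]
    exact ⟨π' q, rfl⟩
  let ψ := IsOpenImmersion.lift i (S.fromSpecResidueField s) hrange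
  have hψ : ψ ≫ i = S.fromSpecResidueField s := IsOpenImmersion.lift_fac _ _ _
  let K := S.residueField s
  letI : Algebra R K := (Spec.preimage ψ).hom.toAlgebra
  have hψ' : Spec.map (CommRingCat.ofHom (algebraMap R K)) = ψ := Spec.map_preimage ψ
  let F := (K : Type u) ⊗[R] A
  let ι := Spec.map (CommRingCat.ofHom (algebraMap A F))
  let sF := Spec.map (CommRingCat.ofHom (algebraMap K F))
  have sq : IsPullback ι sF π' ψ := by
    rw [← hψ']
    exact isPullback_SpecMap_of_isPushout _ _ _ _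
      (CommRingCat.isPushout_iff_isPushout.mpr (Algebra.IsPushout.symm (inferInstance : Algebra.IsPushout R K A F)))
  have sq' : IsPullback ι sF (j ≫ π) (S.fromSpecResidueField s) := by
    have h1 : IsPullback ψ (𝟙 _) i (ψ ≫ i) :=
      (IsPullback.of_horiz_isIso_mono (fst := 𝟙 _) (snd := ψ) (f := ψ ≫ i) (g := i) ⟨by simp⟩).flip
    have h2 := sq.paste_vert h1
    rw [hψ, ← comm] at h2
    erw [Category.comp_id] at h2
    exact h2
  let e : Spec (CommRingCat.of F) ≅ (j ≫ π).fiber s := sq'.isoPullback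
  have he1 : e.hom ≫ (j ≫ π).fiberι s = ι := sq'.isoPullback_hom_fst
  have he2 : e.hom ≫ (j ≫ π).fiberToSpecResidueField s = sF := sq'.isoPullback_hom_snd
  haveI := GrothLib.NodeEt.locallyOfFiniteType_fiberTo π s
  obtain ⟨φ, hφ, hcomm, hpt⟩ := GrothLib.NodeEt.exists_fiberMap π j s
  obtain ⟨z₀, hz₀, hz₀'⟩ := hpt q ⟨z, hz⟩
  let w := e.inv z₀
  have hw : e.hom w = z₀ := congr($(e.inv_hom_id) z₀)
  have hφw : (e.hom ≫ φ) w = z := by
    apply (π.fiberι s).isEmbedding.injective
    rw [hz, Scheme.Hom.comp_apply, hw, hz₀']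
  have hιw : ι w = q := by rw [← he1, Scheme.Hom.comp_apply, hw, hz₀]
  have hc : (e.hom ≫ φ) ≫ π.fiberToSpecResidueField s =
      sF ≫ Spec.map (CommRingCat.ofHom (algebraMap K K)) := by
    rw [Category.assoc, hcomm, he2]; erw [Spec.map_id, Category.comp_id]
  have hgood : Good sF w ↔ Good (π.fiberToSpecResidueField s) z := by
    rw [← hφw]
    exact GrothLib.NodeEt.goodPoint_iff_of_etale (k := K) (k' := K) (π.fiberToSpecResidueField s) sF
      (e.hom ≫ φ) hc w
  have hequi := GrothLib.NodeEt.components_dim_one_of_etale (k := K) (k' := K) (π.fiberToSpecResidueField s) sF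
      (e.hom ≫ φ) hc (hfib s)
  rw [← hgood, good_iff hequi w]
  haveI : LocallyOfFiniteType π' :=
    (HasRingHomProperty.Spec_iff (P := @LocallyOfFiniteType)).2 (RingHom.finiteType_algebraMap.2 ‹_›)
  have hram : w ∈ ramSet K F ↔ q ∈ ramSet R A := by
    rw [mem_ramSet_baseChange (R := R) (A := A) K F w]
    exact iff_of_eq (congrArg (· ∈ ramSet R A) hιw)
  have hcm : MoreMor.IsCMAt sF w ↔ MoreMor.IsCMAt π' q := by
    rw [GrothLib.CMMor6.isCMAt_iff, GrothLib.CMMor6.isCMAt_iff,
      GrothLib.CMMor6.isCMAt_baseChange_iff_of_finiteType sq w, hιw]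
    haveI : Flat sF := GrothLib.CurveLocus.flat_to_spec_field sF
    exact and_congr_left fun _ => iff_of_true (Flat.stalkMap sF w) (Flat.stalkMap π' q)
  rw [hcm, hram]

/-- Smooth points and nodes of the fibres form an open set. -/
theorem isOpen_goodSet {C S : Scheme.{u}} (π : C ⟶ S) [Flat π] [LocallyOfFinitePresentation π]
    (hfib : ∀ s : S, ∀ Z ∈ irreducibleComponents (↥(π.fiber s) : Type u), topologicalKrullDim Z = 1) :
    IsOpen (goodSet π) := by
  rw [isOpen_iff_forall_mem_open]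
  intro x hx
  obtain ⟨V, hV, hxV, -⟩ := exists_isAffineOpen_mem_and_subset (X := S) (x := π x) (U := ⊤) trivial
  obtain ⟨U, hU, hxU, hUV⟩ := exists_isAffineOpen_mem_and_subset (X := C) (x := x) (U := π ⁻¹ᵁ V) hxV
  let R := Γ(S, V)
  let A := Γ(C, U)
  let φ := π.appLE V U hUV
  letI : Algebra R A := φ.hom.toAlgebra
  have hfp : φ.hom.FinitePresentation := LocallyOfFinitePresentation.finitePresentation_appLE π hV hU hUV
  haveI : Algebra.FiniteType R A := RingHom.finiteType_algebraMap.mp (RingHom.FiniteType.of_finitePresentation hfp)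
  have comm : hU.fromSpec ≫ π = Spec.map (CommRingCat.ofHom (algebraMap R A)) ≫ hV.fromSpec :=
    (hV.SpecMap_appLE_fromSpec π hU hUV).symm
  let π' := Spec.map (CommRingCat.ofHom (algebraMap R A))
  haveI : LocallyOfFinitePresentation π' :=
    (HasRingHomProperty.Spec_iff (P := @LocallyOfFinitePresentation)).2 hfp
  have hO : IsOpen ({q | MoreMor.IsCMAt π' q} ∩ (ramSet R A)ᶜ : Set (PrimeSpectrum A)) :=
    (GrothLib.CMMor6.isOpen_cmLocus π').inter isClosed_ramSet.isOpen_compl
  refine ⟨hU.fromSpec '' ({q | MoreMor.IsCMAt π' q} ∩ (ramSet R A)ᶜ), ?_,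
    hU.fromSpec.isOpenEmbedding.isOpenMap _ hO, ?_⟩
  · rintro _ ⟨q, hq, rfl⟩
    exact (mem_goodSet_iff_chart π hfib hU.fromSpec hV.fromSpec comm q).2 hq
  · obtain ⟨q, rfl⟩ := hU.range_fromSpec.ge hxU
    exact ⟨q, (mem_goodSet_iff_chart π hfib hU.fromSpec hV.fromSpec comm q).1 hx, rfl⟩

end GrothLib.NodeOpen11
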