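import Groth.Agent.Lib.NodeOpen11.BaseChange

/-!
# The nodal locus as a pointwise property
-/

set_option autoImplicit false
set_option linter.all false
set_option backward.isDefEq.respectTransparency false

universe u

open CategoryTheory Limits AlgebraicGeometry

noncomputable section

namespace GrothLib.NodeOpen11

theorem good_etale_target {X Y Z : Scheme.{u}} (h : X ⟶ Y) (e : Y ⟶ Z) [Etale e] [LocallyOfFiniteType h] (x : X) :
    Good ((h ≫ e).fiberToSpecResidueField ((h ≫ e) x)) ((h ≫ e).asFiber x) ↔
      Good (h.fiberToSpecResidueField (h x)) (h.asFiber x) := by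
  suffices H : ∀ (y : Y) (t : Z), e y = t → ∀ (z : h.fiber y) (w : (h ≫ e).fiber t),
      (h ≫ e).fiberι t w = h.fiberι y z →
      (Good ((h ≫ e).fiberToSpecResidueField t) w ↔ Good (h.fiberToSpecResidueField y) z) from
    H (h x) _ rfl (h.asFiber x) ((h ≫ e).asFiber x) ((h ≫ e).fiberι_asFiber x |>.trans (h.fiberι_asFiber x).symm)
  rintro y t rfl z w hwz
  haveI := GrothLib.NodeEt.locallyOfFiniteType_fiberTo (h ≫ e) (e y)
  let φ : h.fiber y ⟶ (h ≫ e).fiber (e y) :=
    pullback.lift (h.fiberι y) (h.fiberToSpecResidueField y ≫ Spec.map (e.residueFieldMap y)) (by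
      rw [Category.assoc, Scheme.Hom.SpecMap_residueFieldMap_fromSpecResidueField, ← Category.assoc,
        ← Category.assoc]
      exact congrArg (· ≫ e) pullback.condition)
  have h1 : φ ≫ (h ≫ e).fiberι _ = h.fiberι y := pullback.lift_fst _ _ _
  have h2 : φ ≫ (h ≫ e).fiberToSpecResidueField _ =
      h.fiberToSpecResidueField y ≫ Spec.map (e.residueFieldMap y) := pullback.lift_snd _ _ _
  haveI : Etale φ := GrothLib.EtFibre.etale_fiberMap (h ≫ e) h (𝟙 X) e (by simp) y φ
    (by rw [h1, Category.comp_id]) h2
  have hw : φ z = w := by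
    apply ((h ≫ e).fiberι _).isEmbedding.injective
    rw [← Scheme.Hom.comp_apply, h1, hwz]
  letI := (e.residueFieldMap y).hom.toAlgebra
  obtain ⟨hfin, hsep⟩ := GrothLib.NodeEt.isSeparable_residueFieldMap e y
  haveI := hfin
  haveI := hsep
  rw [← hw]
  exact (GrothLib.NodeEt.goodPoint_iff_of_etale (k := Z.residueField (e y)) (k' := Y.residueField y)
    ((h ≫ e).fiberToSpecResidueField (e y)) (h.fiberToSpecResidueField y) φ h2 z).symm

/-- Being a smooth point or node of a Cohen–Macaulay one-dimensional fibre is a pointwise property. -/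
theorem ptProp_nodal : GrothLib.CurveStk.PtProp.{u} fun _ _ f x => x ∈ nodalLocus f where
  etale_source e h _ _ _ x := mem_nodalLocus_etale_source e h x
  etale_target h e _ _ _ x :=
    and_congr ((GrothLib.CurveStk.ptProp_cm_dim 1).etale_target h e x) (good_etale_target h e x)
  isOpen h _ _ := isOpen_nodalLocus h
  baseChange sq _ _ x' := mem_nodalLocus_baseChange sq x'

end GrothLib.NodeOpen11
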