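import Groth.Agent.Lib.NodeOpen11.Fitting
import Groth.Agent.Lib.Fitting.BaseChange
import Groth.Agent.Lib.Fitting.Support
import Mathlib.RingTheory.Kaehler.TensorProduct
import Mathlib.RingTheory.TensorProduct.Quotient
import Mathlib.RingTheory.Unramified.Locus
import Mathlib.RingTheory.Kaehler.Basic

/-!
# The ramified part of the subscheme cut out by the first Fitting ideal of the differentials
-/

set_option autoImplicit false
set_option linter.all false
set_option backward.isDefEq.respectTransparency false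

universe u

open TensorProduct IsLocalRing KaehlerDifferential

noncomputable section

namespace GrothLib.NodeOpen11

/-- The first Fitting ideal of the differentials. -/
def fitt1 (R A : Type u) [CommRing R] [CommRing A] [Algebra R A] : Ideal A := Fitt.ideal A Ω[A⁄R] 1

/-- The points of `V(Fitt₁ Ω)` at which it is ramified over the base. -/
def ramSet (R A : Type u) [CommRing R] [CommRing A] [Algebra R A] : Set (PrimeSpectrum A) :=
  PrimeSpectrum.comap (Ideal.Quotient.mk (fitt1 R A)) '' Module.support (A ⧸ fitt1 R A) Ω[(A ⧸ fitt1 R A)⁄R]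

attribute [local instance] Algebra.TensorProduct.rightAlgebra

variable {R A : Type u} [CommRing R] [CommRing A] [Algebra R A]

theorem isClosed_ramSet [Algebra.FiniteType R A] : IsClosed (ramSet R A) := by
  haveI : Algebra.FiniteType R (A ⧸ fitt1 R A) :=
    Algebra.FiniteType.of_surjective (Ideal.Quotient.mkₐ R _) Ideal.Quotient.mk_surjective
  exact (PrimeSpectrum.isClosedEmbedding_comap_of_surjective _ _ Ideal.Quotient.mk_surjective).isClosedMap _
    Module.isClosed_support

theorem fitt1_le_of_mem {q : PrimeSpectrum A} (h : q ∈ ramSet R A) : fitt1 R A ≤ q.asIdeal := by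
  obtain ⟨Q, -, rfl⟩ := h
  intro x hx
  show Ideal.Quotient.mk _ x ∈ Q.asIdeal
  rw [Ideal.Quotient.eq_zero_iff_mem.2 hx]
  exact zero_mem _

theorem mem_ramSet_iff (Q : PrimeSpectrum (A ⧸ fitt1 R A)) :
    PrimeSpectrum.comap (Ideal.Quotient.mk _) Q ∈ ramSet R A ↔
      ¬ Algebra.IsUnramifiedAt R Q.asIdeal := by
  rw [ramSet, (PrimeSpectrum.isClosedEmbedding_comap_of_surjective _ _
    Ideal.Quotient.mk_surjective).injective.mem_set_image]
  have h := congrArg (fun s => Q ∈ s) (Algebra.unramifiedLocus_eq_compl_support (R := R) (A := A ⧸ fitt1 R A))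
  simp only [Algebra.unramifiedLocus, Set.mem_setOf_eq, Set.mem_compl_iff, eq_iff_iff] at h
  rw [h, not_not]

/-- The support of the differentials commutes with base change. -/
theorem mem_support_kaehler_iff (R' B : Type u) [CommRing R'] [CommRing B] [Algebra R R'] [Algebra R B]
    [Algebra R' B] [Algebra A B] [IsScalarTower R A B] [IsScalarTower R R' B] [Algebra.IsPushout R R' A B]
    [Algebra.FiniteType R A] (q : PrimeSpectrum B) :
    q ∈ Module.support B Ω[B⁄R'] ↔ PrimeSpectrum.comap (algebraMap A B) q ∈ Module.support A Ω[A⁄R] := by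
  haveI : Module.Finite B Ω[B⁄R'] := Module.Finite.equiv (KaehlerDifferential.tensorKaehlerEquiv R R' A B)
  rw [← GrothLib.Fitting.zeroLocus_ideal_zero, ← GrothLib.Fitting.zeroLocus_ideal_zero,
    PrimeSpectrum.mem_zeroLocus, PrimeSpectrum.mem_zeroLocus, SetLike.coe_subset_coe, SetLike.coe_subset_coe,
    ← GrothLib.Fitting.ideal_congr (KaehlerDifferential.tensorKaehlerEquiv R R' A B),
    GrothLib.Fitting.ideal_baseChange B, Ideal.map_le_iff_le_comap]
  rfl

/-- The ramified part commutes with base change. -/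
theorem mem_ramSet_baseChange (R' B : Type u) [CommRing R'] [CommRing B] [Algebra R R'] [Algebra R B]
    [Algebra R' B] [Algebra A B] [IsScalarTower R A B] [IsScalarTower R R' B] [Algebra.IsPushout R R' A B]
    [Algebra.FiniteType R A] (q : PrimeSpectrum B) :
    q ∈ ramSet R' B ↔ PrimeSpectrum.comap (algebraMap A B) q ∈ ramSet R A := by
  have hI : fitt1 R' B = (fitt1 R A).map (algebraMap A B) := by
    rw [fitt1, fitt1, ← GrothLib.Fitting.ideal_congr (KaehlerDifferential.tensorKaehlerEquiv R R' A B),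
      GrothLib.Fitting.ideal_baseChange B]
  set I := fitt1 R A
  set J := fitt1 R' B
  have hle : I ≤ J.comap (algebraMap A B) := by rw [hI]; exact Ideal.le_comap_map
  let g : A ⧸ I →+* B ⧸ J := Ideal.quotientMap J (algebraMap A B) hle
  letI : Algebra (A ⧸ I) (B ⧸ J) := g.toAlgebra
  haveI : IsScalarTower A (A ⧸ I) (B ⧸ J) := IsScalarTower.of_algebraMap_eq fun x => rfl
  haveI : IsScalarTower R (A ⧸ I) (B ⧸ J) := IsScalarTower.of_algebraMap_eq fun x => by
    show algebraMap R (B ⧸ J) x = g (Ideal.Quotient.mk I (algebraMap R A x))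
    rw [Ideal.quotientMap_mk, ← IsScalarTower.algebraMap_apply R A B]
    rfl
  haveI : Algebra.IsPushout A B (A ⧸ I) (B ⧸ J) := by
    refine Algebra.IsPushout.of_equiv (h := (inferInstance : Algebra.IsPushout A B (A ⧸ I) (B ⊗[A] (A ⧸ I))))
      ((Algebra.TensorProduct.quotIdealMapEquivTensorQuot B I).symm.trans (Ideal.quotientEquivAlgOfEq B hI.symm)) ?_
    refine RingHom.ext fun y => ?_
    obtain ⟨x, rfl⟩ := Ideal.Quotient.mk_surjective y
    show Ideal.quotientEquivAlgOfEq B hI.symm ((Algebra.TensorProduct.quotIdealMapEquivTensorQuot B I).symm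
      ((1 : B) ⊗ₜ[A] Ideal.Quotient.mk I x)) = g (Ideal.Quotient.mk I x)
    have h1 : (1 : B) ⊗ₜ[A] (Ideal.Quotient.mk I x : A ⧸ I) = (algebraMap A B x) ⊗ₜ[A] (1 : A ⧸ I) := by
      rw [show (Ideal.Quotient.mk I x : A ⧸ I) = x • (1 : A ⧸ I) by
        rw [Algebra.smul_def, mul_one, Ideal.Quotient.algebraMap_eq], TensorProduct.tmul_smul,
        TensorProduct.smul_tmul', Algebra.smul_def, mul_one]
    rw [h1, ← Algebra.TensorProduct.quotIdealMapEquivTensorQuot_mk, AlgEquiv.symm_apply_apply]
    rfl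
  haveI : Algebra.IsPushout R A R' B := Algebra.IsPushout.symm inferInstance
  haveI : Algebra.IsPushout A (A ⧸ I) B (B ⧸ J) := Algebra.IsPushout.symm inferInstance
  haveI : Algebra.IsPushout R R' (A ⧸ I) (B ⧸ J) :=
    Algebra.IsPushout.symm ((Algebra.IsPushout.comp_iff R A R' B (T := A ⧸ I) (T' := B ⧸ J)).2 inferInstance)
  haveI : Algebra.FiniteType R (A ⧸ I) :=
    Algebra.FiniteType.of_surjective (Ideal.Quotient.mkₐ R _) Ideal.Quotient.mk_surjective
  constructor
  · rintro ⟨Q, hQ, rfl⟩
    exact ⟨PrimeSpectrum.comap g Q, (mem_support_kaehler_iff (R := R) (A := A ⧸ I) R' (B ⧸ J) Q).1 hQ, rfl⟩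
  · rintro ⟨P, hP, hPq⟩
    have hJq : J ≤ q.asIdeal := by
      rw [hI, Ideal.map_le_iff_le_comap]
      exact fitt1_le_of_mem ⟨P, hP, hPq⟩
    obtain ⟨Q, rfl⟩ : q ∈ Set.range (PrimeSpectrum.comap (Ideal.Quotient.mk J)) := by
      rw [range_comap_of_surjective _ _ Ideal.Quotient.mk_surjective, Ideal.mk_ker]
      exact hJq
    refine ⟨Q, (mem_support_kaehler_iff (R := R) (A := A ⧸ I) R' (B ⧸ J) Q).2 ?_, rfl⟩
    convert hP using 1
    exact (PrimeSpectrum.isClosedEmbedding_comap_of_surjective _ _ Ideal.Quotient.mk_surjective).injective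
      (hPq ▸ rfl)

end GrothLib.NodeOpen11
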