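import Groth.Agent.Lib.NodeOpen11.Pt
import Groth.Agent.Lib.CurveLocus.Basic
import Groth.Agent.Lib.CurveMult.ProjSmooth
import Groth.Agent.Lib.CMReg.ProjSpace
import Groth.Agent.Lib.SerrePn27.Generic
import Groth.Agent.Lib.GrpSchField.Components
import Groth.Agent.S10829

/-!
# Nodal curves: the open substack and the projective line as a member
-/

set_option autoImplicit false
set_option linter.all false
set_option backward.isDefEq.respectTransparency false

universe u

open CategoryTheory Limits AlgebraicGeometry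

noncomputable section

namespace GrothLib.NodeOpen11

open _root_.AlgSp GrothLib.AlgSp GrothLib.AlgSp.TrivLocus

variable {S : Scheme.{u}}

/-- A scheme family as a family of sheaves is a family of curves. -/
theorem isCurveFam_toSpFam {n : ℕ} (A : CurvSt.PtFamObj S n) [Flat A.f] [IsProper A.f]
    [LocallyOfFinitePresentation A.f] (hdim : ∀ x, FlatMor.fibreDimAt A.f x ≤ ((1 : ℕ) : WithBot ℕ∞)) :
    CurvSt.IsCurveFam ((CurvSt.toSpFam S n).obj A) := by
  set B := (CurvSt.toSpFam S n).obj A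
  have hT : IsAlgSpace ((yon S).obj A.base) := IsAlgSpace.yon_obj _
  have hr : RepWith @IsProper B.f := (repWith_yon_map_iff _ _).2 (inferInstanceAs (IsProper A.f))
  have hfl : RepWith @Flat B.f := (repWith_yon_map_iff _ _).2 (inferInstanceAs (Flat A.f))
  have hfp : RepWith @LocallyOfFinitePresentation B.f :=
    (repWith_yon_map_iff _ _).2 (inferInstanceAs (LocallyOfFinitePresentation A.f))
  have hp : IsProperMor B.f :=
    ⟨(isSeparatedMor_iff_repWith hr.1).2 (repWith_mono hr fun A B g (hg : IsProper g) => inferInstance),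
      ⟨EtLocal.locP_of_repWith EtLocal.lft hT (repWith_mono hr fun A B g (hg : IsProper g) =>
          show LocallyOfFiniteType g from inferInstance),
        isQuasiCompactMor_of_repWith (repWith_mono hr fun A B g (hg : IsProper g) => inferInstance)⟩,
      isUnivClosedMor_of_repWith (repWith_mono hr fun A B g (hg : IsProper g) => inferInstance)⟩
  refine ⟨IsAlgSpace.yon_obj _, EtLocal.flat.locP_of_repWith hT hfl, hp,
    ⟨EtLocal.lfp.locP_of_repWith hT hfp, hp.2.1.2,
      repWith_mono hp.1 fun _ _ g (hg : IsClosedImmersion g) => show QuasiCompact g from inferInstance⟩, fun x => ?_⟩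
  refine ⟨A.totOver, A.base, 𝟙 _, 𝟙 _, A.fOver, Points.toScheme _ x, ?_, ?_, (by simp [B]; rfl), ?_, hdim _⟩
  · rw [show ∀ W : Over S, 𝟙 ((yon S).obj W) = (yon S).map (𝟙 W) from fun W => ((yon S).map_id W).symm]; exact (repWith_yon_map_iff _ _).2 (inferInstanceAs (Etale (𝟙 A.totOver.left)))
  · rw [show ∀ W : Over S, 𝟙 ((yon S).obj W) = (yon S).map (𝟙 W) from fun W => ((yon S).map_id W).symm]; exact (repWith_yon_map_iff _ _).2 (inferInstanceAs (Etale (𝟙 A.base.left)))
  · exact Points.ofScheme_toScheme _ x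

/-- A nodal scheme family is etale-locally nodal as a family of sheaves. -/
theorem locP_nodalFam_toSpFam {n : ℕ} (A : CurvSt.PtFamObj S n) (h : Curv2.IsNodalFamily A.f) :
    LocP CurvSt.nodalFam ((CurvSt.toSpFam S n).obj A).f := by
  haveI := h.1
  haveI := h.2.1
  set B := (CurvSt.toSpFam S n).obj A
  have hT : IsAlgSpace ((yon S).obj A.base) := IsAlgSpace.yon_obj _
  have hf : LocP GrothLib.CurveStk.FlatLFP B.f := GrothLib.CurveStk.etLocal_flatLFP.locP_of_repWith hT
    ((repWith_yon_map_iff _ _).2 ⟨h.1, h.2.1⟩)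
  have hall : LocP (fun U V g => ∀ x, x ∈ nodalLocus g) B.f := by
    rw [GrothLib.CurveStk.locP_iff_forall ptProp_nodal (IsAlgSpace.yon_obj _) hT hf]
    intro x
    refine ⟨A.totOver, A.base, 𝟙 _, 𝟙 _, A.fOver, Points.toScheme _ x, ?_, ?_, (by simp [B]; rfl),
      Points.ofScheme_toScheme _ x, (isNodalFamily_iff A.f).1 h _⟩
    · rw [show ∀ W : Over S, 𝟙 ((yon S).obj W) = (yon S).map (𝟙 W) from fun W => ((yon S).map_id W).symm]; exact (repWith_yon_map_iff _ _).2 (inferInstanceAs (Etale (𝟙 A.totOver.left)))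
    · rw [show ∀ W : Over S, 𝟙 ((yon S).obj W) = (yon S).map (𝟙 W) from fun W => ((yon S).map_id W).symm]; exact (repWith_yon_map_iff _ _).2 (inferInstanceAs (Etale (𝟙 A.base.left)))
  intro U V a b g ha hb c
  obtain ⟨h1, h2⟩ := hf a b g ha hb c
  exact (isNodalFamily_iff g.left).2 (hall a b g ha hb c)

/-- For families of curves nodality is the pointwise condition. -/
theorem locP_nodalFam_iff {n : ℕ} {A : CurvSt.SpFamObj S n} (hA : CurvSt.IsCurveFam A) :
    LocP CurvSt.nodalFam A.f ↔ LocP (fun U V g => ∀ x, x ∈ nodalLocus g) A.f := by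
  constructor <;> intro h U V a b g ha hb c <;>
    obtain ⟨h1, h2⟩ := GrothLib.CurveStk.locP_flatLFP_curveFam hA a b g ha hb c
  · exact (isNodalFamily_iff g.left).1 (h a b g ha hb c)
  · exact (isNodalFamily_iff g.left).2 (h a b g ha hb c)

/-- Nodal curves form an open substack. -/
theorem isOpenSubstack_nodal {n : ℕ} (hC : AlgSt.IsAlgStack Scheme.fppfPrecoverage (CurvSt.Curves S n)) :
    AlgSt.IsOpenSubstack (CurvSt.Curves S n) (fun A => LocP CurvSt.nodalFam A.obj.f) Scheme.fppfPrecoverage := by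
  have e : (fun A : (CurvSt.Curves S n).obj => LocP CurvSt.nodalFam A.obj.f) =
      fun A => LocP (fun U V g => ∀ x, x ∈ nodalLocus g) A.obj.f :=
    funext fun A => propext (locP_nodalFam_iff A.property)
  rw [e]
  exact GrothLib.CurveStk.isOpenSubstack_curves ptProp_nodal hC

section P1

variable (Ω : Type u) [Field Ω] (t : Spec (CommRingCat.of Ω) ⟶ S)

/-- The projective line as a family over a point. -/
def p1Obj : CurvSt.PtFamObj S 0 :=
  ⟨Over.mk t, CohB1.ProjSpace 1 Ω, CohB1.ProjSpace.toSpec 1 Ω, Fin.elim0, fun i => i.elim0⟩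

theorem p1_facts :
    IsProper (CohB1.ProjSpace.toSpec 1 Ω) ∧ Smooth (CohB1.ProjSpace.toSpec 1 Ω) ∧
      ∀ x, FlatMor.fibreDimAt (CohB1.ProjSpace.toSpec 1 Ω) x = 1 := by
  haveI : IsProper (CohB1.ProjSpace.toSpec 1 Ω) := GrothLib.Chow.isProper_toSpec 1 Ω
  refine ⟨inferInstance, GrothLib.CurveMult.smooth_toSpec 1 Ω, fun x => ?_⟩
  haveI := GrothLib.CurveLocus.isOpenImmersion_fiberι (CohB1.ProjSpace.toSpec 1 Ω) (𝟙 _)
    (CohB1.ProjSpace.toSpec 1 Ω x)
  rw [FlatMor.fibreDimAt, ← GrothLib.EtFibre.localDim_eq_of_etale ((CohB1.ProjSpace.toSpec 1 Ω).fiberι _) _]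
  haveI := GrothLib.SerrePn27.isIntegral_projSpace (n := 1) (k := Ω)
  simpa using (GrothLib.Equidim6.equidim_iff (CohB1.ProjSpace.toSpec 1 Ω) 1).1 (fun Z hZ => by
    rw [irreducibleComponents_eq_singleton, Set.mem_singleton_iff] at hZ
    subst hZ
    rw [(Homeomorph.Set.univ _).isHomeomorph.topologicalKrullDim_eq]
    exact_mod_cast Groth.Agent.S10829.result Ω 1) _

theorem isNodalFamily_p1 : Curv2.IsNodalFamily (CohB1.ProjSpace.toSpec 1 Ω) := by
  obtain ⟨h1, h2, h3⟩ := p1_facts Ω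
  haveI := h1
  haveI := h2
  refine ⟨inferInstance, inferInstance, fun s => ⟨hfib_of_fibreDimAt _ h3 s, fun z _ => Or.inl ⟨⊤, trivial, ?_⟩⟩⟩
  show Smooth (Scheme.Opens.ι _ ≫ (CohB1.ProjSpace.toSpec 1 Ω).fiberToSpecResidueField s)
  haveI : Smooth ((CohB1.ProjSpace.toSpec 1 Ω).fiberToSpecResidueField s) := MorphismProperty.pullback_snd _ _ h2
  infer_instance

theorem isCurveFam_p1 : CurvSt.IsCurveFam ((CurvSt.toSpFam S 0).obj (p1Obj Ω t)) := by
  obtain ⟨h1, h2, h3⟩ := p1_facts Ω
  haveI : IsProper (p1Obj Ω t).f := h1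
  haveI : Smooth (p1Obj Ω t).f := h2
  exact isCurveFam_toSpFam _ fun x => le_of_eq (by simpa [p1Obj] using h3 x)

theorem connected_geomFib_p1 [IsAlgClosed Ω] :
    CurvSt.GeomFib (fun _ _ _ X' _ _ => ConnectedSpace ↥X') ((CurvSt.toSpFam S 0).obj (p1Obj Ω t)) := by
  rw [GrothLib.CurveLocus.geomFib_toSpFam_iff (fun _ _ _ X' _ => ConnectedSpace ↥X')]
  haveI := GrothLib.SerrePn27.isIntegral_projSpace (n := 1) (k := Ω)
  intro K _ _ s X' i q hsq
  have := GrothLib.GrpSchField.irreducibleSpace_pullback (CohB1.ProjSpace.toSpec 1 Ω) s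
  haveI : IrreducibleSpace ↥(pullback (p1Obj Ω t).f s) := this
  have := hsq.isoPullback.inv.homeomorph.surjective.irreducibleSpace hsq.isoPullback.inv.continuous
  infer_instance

end P1

end GrothLib.NodeOpen11
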